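import Mathlib.AlgebraicGeometry.ProjectiveSpectrum.Functor
import Mathlib.AlgebraicGeometry.Morphisms.ClosedImmersion

/-!
# `Proj.map` for gradings by additive subgroups
-/

set_option autoImplicit false
universe u
open CategoryTheory CategoryTheory.Limits AlgebraicGeometry HomogeneousLocalization Graded

namespace Groth.Agent.RelProjBasic

variable {σ τ A B : Type u} [CommRing A] [SetLike σ A] [AddSubgroupClass σ A]
  [CommRing B] [SetLike τ B] [AddSubgroupClass τ B] {𝒜 : ℕ → σ} [GradedRing 𝒜] {ℬ : ℕ → τ} [GradedRing ℬ]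
  (φ : 𝒜 →+*ᵍ ℬ) (hφ : HomogeneousIdeal.irrelevant ℬ ≤ (HomogeneousIdeal.irrelevant 𝒜).map φ)

/-- The degree-zero part of a graded homomorphism. -/
def zeroHom : 𝒜 0 →+* ℬ 0 where
  toFun a := ⟨φ a, map_mem φ a.2⟩
  map_one' := Subtype.ext (map_one φ)
  map_mul' a b := Subtype.ext (map_mul φ (a : A) b)
  map_zero' := Subtype.ext (map_zero φ)
  map_add' a b := Subtype.ext (map_add φ (a : A) b)

@[reassoc] theorem map_toSpecZero :
    Proj.map φ hφ ≫ Proj.toSpecZero 𝒜 = Proj.toSpecZero ℬ ≫ Spec.map (CommRingCat.ofHom (zeroHom φ)) := by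
  suffices key : ∀ (d : ℕ) (hd : 0 < d) (t : A) (ht : t ∈ 𝒜 d),
      Proj.awayι ℬ (φ t) (map_mem φ ht) hd ≫ Proj.map φ hφ ≫ Proj.toSpecZero 𝒜 =
        Proj.awayι ℬ (φ t) (map_mem φ ht) hd ≫ Proj.toSpecZero ℬ ≫ Spec.map (CommRingCat.ofHom (zeroHom φ)) from
    (Proj.mapAffineOpenCover φ hφ).openCover.hom_ext _ _ fun s => key _ s.1.2 _ s.2.2
  intro d hd t ht
  rw [Proj.awayι_comp_map_assoc φ hφ hd t ht, Proj.awayι_toSpecZero, Proj.awayι_toSpecZero_assoc,
    ← Spec.map_comp, ← Spec.map_comp]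
  congr 1
  ext a
  simp [HomogeneousLocalization.fromZeroRingHom, HomogeneousLocalization.Away.map,
    HomogeneousLocalization.map_mk, zeroHom]

/-- A property local at the target holds for `Proj.map` if it holds on the standard charts. -/
theorem map_of_away {P : MorphismProperty Scheme.{u}} [IsZariskiLocalAtTarget P]
    (h : ∀ (d : ℕ) (s : A), 0 < d → s ∈ 𝒜 d → P (Spec.map (CommRingCat.ofHom (Away.map φ s)))) :
    P (Proj.map φ hφ) := by
  refine IsZariskiLocalAtTarget.of_openCover (Proj.affineOpenCover 𝒜).openCover fun i => ?_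
  obtain ⟨⟨d, hd⟩, ⟨s, hs⟩⟩ := i
  have hpb : IsPullback (Proj.awayι ℬ (φ s) (map_mem φ hs) hd) (Spec.map (CommRingCat.ofHom (Away.map φ s)))
      (Proj.map φ hφ) (Proj.awayι 𝒜 s hs hd) :=
    (IsOpenImmersion.isPullback _ _ _ _ (Proj.awayι_comp_map φ hφ hd s hs)
      (by rw [Proj.opensRange_awayι, Proj.opensRange_awayι, Proj.map_preimage_basicOpen])).flip
  show P (pullback.snd (Proj.map φ hφ) (Proj.awayι 𝒜 s hs hd))
  rw [← MorphismProperty.cancel_left_of_respectsIso P hpb.isoPullback.hom, IsPullback.isoPullback_hom_snd]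
  exact h d s hd hs

theorem away_map_surjective (hlift : ∀ n, 0 < n → ∀ b ∈ ℬ n, ∃ a ∈ 𝒜 n, φ a = b) {d : ℕ} (hd : 0 < d) {s : A}
    (hs : s ∈ 𝒜 d) : Function.Surjective (Away.map φ s) := by
  intro y
  obtain ⟨n, b, hb, rfl⟩ := Away.mk_surjective ℬ (map_mem φ hs) y
  obtain ⟨a, ha, hab⟩ := hlift ((n + 1) • d) (Nat.mul_pos n.succ_pos hd) (b * φ s)
    (by rw [succ_nsmul]; exact SetLike.mul_mem_graded hb (map_mem φ hs))
  refine ⟨Away.mk 𝒜 hs (n + 1) a ha, ?_⟩
  rw [Away.map_mk]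
  apply HomogeneousLocalization.val_injective
  simp only [Away.val_mk, Localization.mk_eq_mk_iff, Localization.r_iff_exists, hab]
  exact ⟨1, by simp; ring⟩

theorem away_map_injective (hinj : ∀ n, 0 < n → ∀ a ∈ 𝒜 n, φ a = 0 → a = 0) {d : ℕ} (hd : 0 < d) {s : A}
    (hs : s ∈ 𝒜 d) : Function.Injective (Away.map φ s) := by
  rw [injective_iff_map_eq_zero]
  intro x hx
  obtain ⟨n, a, ha, rfl⟩ := Away.mk_surjective 𝒜 hs x
  rw [Away.map_mk] at hx
  have hx' := congrArg HomogeneousLocalization.val hx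
  rw [Away.val_mk, HomogeneousLocalization.val_zero, Localization.mk_eq_mk', IsLocalization.mk'_eq_zero_iff] at hx'
  obtain ⟨⟨_, N, rfl⟩, hN⟩ := hx'
  have hN' : φ s ^ N * φ a = 0 := hN
  have h0 : s ^ (N + 1) * a = 0 := by
    refine hinj ((N + 1) • d + n • d) (Nat.add_pos_left (Nat.mul_pos N.succ_pos hd) _) _
      (SetLike.mul_mem_graded (SetLike.pow_mem_graded (N + 1) hs) ha) ?_
    rw [map_mul, map_pow, pow_succ', mul_assoc, hN', mul_zero]
  apply HomogeneousLocalization.val_injective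
  rw [Away.val_mk, HomogeneousLocalization.val_zero, Localization.mk_eq_mk', IsLocalization.mk'_eq_zero_iff]
  exact ⟨⟨_, N + 1, rfl⟩, h0⟩

/-- If positive-degree elements lift, `Proj.map` is a closed immersion. -/
theorem isClosedImmersion_map (hlift : ∀ n, 0 < n → ∀ b ∈ ℬ n, ∃ a ∈ 𝒜 n, φ a = b) :
    IsClosedImmersion (Proj.map φ hφ) :=
  map_of_away (P := @IsClosedImmersion) φ hφ fun _ _ hd hs =>
    IsClosedImmersion.spec_of_surjective _ (away_map_surjective φ hlift hd hs)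

/-- If `φ` is bijective in positive degrees, `Proj.map` is an isomorphism. -/
theorem isIso_map (hbij : ∀ n, 0 < n → Set.BijOn φ (𝒜 n) (ℬ n)) : IsIso (Proj.map φ hφ) :=
  map_of_away (P := MorphismProperty.isomorphisms Scheme) φ hφ fun d s hd hs => by
    have hb : Function.Bijective (Away.map φ s) :=
      ⟨away_map_injective φ (fun n hn a ha h => (hbij n hn).injOn ha (zero_mem _) (h.trans (map_zero φ).symm)) hd hs,
        away_map_surjective φ (fun n hn b hb => (hbij n hn).surjOn hb) hd hs⟩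
    have : IsIso (CommRingCat.ofHom (Away.map φ s)) := (ConcreteCategory.isIso_iff_bijective _).mpr hb
    show IsIso (Spec.map (CommRingCat.ofHom (Away.map φ s)))
    infer_instance

end Groth.Agent.RelProjBasic
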