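import Groth.Agent.ConeLib.Glue
import Groth.Agent.RelProjBasic.ProjMap
import Groth.Prelude.Def_RelSpec2
import Mathlib.AlgebraicGeometry.Morphisms.Affine

/-!
# The morphism `G(φ) ⟶ Proj A` for gradings by additive subgroups
-/

set_option autoImplicit false
set_option maxHeartbeats 800000
universe u
open CategoryTheory CategoryTheory.Limits AlgebraicGeometry TopologicalSpace HomogeneousLocalization Graded

set_option backward.isDefEq.respectTransparency false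

namespace Groth.Agent.RelProjBasic

open Groth.Agent.ConeLib (existsUnique_of_charts)

variable {σ τ A B : Type u} [CommRing A] [SetLike σ A] [AddSubgroupClass σ A]
  [CommRing B] [SetLike τ B] [AddSubgroupClass τ B] {𝒜 : ℕ → σ} [GradedRing 𝒜] {ℬ : ℕ → τ} [GradedRing ℬ]
  (φ : 𝒜 →+*ᵍ ℬ)

theorem mem_domOpen_of {d : ℕ} {f : A} (hd : 0 < d) (hf : f ∈ 𝒜 d) {x : Proj ℬ}
    (hx : φ f ∉ x.asHomogeneousIdeal) : x ∈ RelCone.domOpen φ :=
  (RelCone.mem_domOpen φ x).mpr ⟨f, HomogeneousIdeal.mem_irrelevant_of_mem _ hd hf, hx⟩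

theorem exists_hom_of_mem_domOpen {x : Proj ℬ} (hx : x ∈ RelCone.domOpen φ) :
    ∃ (d : ℕ) (f : A), 0 < d ∧ f ∈ 𝒜 d ∧ φ f ∉ x.asHomogeneousIdeal := by
  obtain ⟨f, hf, hfx⟩ := (RelCone.mem_domOpen φ x).mp hx
  by_contra hc
  push Not at hc
  have hle : (HomogeneousIdeal.irrelevant 𝒜).toIdeal ≤ x.asHomogeneousIdeal.toIdeal.comap φ :=
    (HomogeneousIdeal.toIdeal_irrelevant_le 𝒜).mpr fun i hi z hz => hc i z hi hz
  exact hfx (hle hf)

theorem range_awayι_subset_domOpen {d : ℕ} {f : A} (hd : 0 < d) (hf : f ∈ 𝒜 d) :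
    Set.range (Proj.awayι ℬ (φ f) (map_mem φ hf) hd).base ⊆ Set.range (RelCone.domOpen φ).ι.base := by
  rw [Scheme.Opens.range_ι]
  exact fun x hx => mem_domOpen_of φ hd hf
    ((ProjectiveSpectrum.mem_basicOpen _ _ _).mp ((Proj.opensRange_awayι ℬ (φ f) (map_mem φ hf) hd).le hx))

/-- The standard chart of `G(φ)`. -/
noncomputable def dchart {d : ℕ} {f : A} (hf : f ∈ 𝒜 d) (hd : 0 < d) :
    Spec (CommRingCat.of (Away ℬ (φ f))) ⟶ (RelCone.domOpen φ : Scheme.{u}) :=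
  IsOpenImmersion.lift (RelCone.domOpen φ).ι (Proj.awayι ℬ (φ f) (map_mem φ hf) hd) (range_awayι_subset_domOpen φ hd hf)

theorem pchart_ι {d : ℕ} {f : A} (hd : 0 < d) (hf : f ∈ 𝒜 d) :
    dchart φ hf hd ≫ (RelCone.domOpen φ).ι = Proj.awayι ℬ (φ f) (map_mem φ hf) hd :=
  IsOpenImmersion.lift_fac _ _ _

instance isOpenImmersion_dchart {d : ℕ} {f : A} (hd : 0 < d) (hf : f ∈ 𝒜 d) :
    IsOpenImmersion (dchart φ hf hd) := by
  have : IsOpenImmersion (dchart φ hf hd ≫ (RelCone.domOpen φ).ι) := by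
    rw [pchart_ι]; infer_instance
  exact IsOpenImmersion.of_comp _ (RelCone.domOpen φ).ι

theorem mem_range_pchart {d : ℕ} {f : A} (hd : 0 < d) (hf : f ∈ 𝒜 d) (x : (RelCone.domOpen φ : Scheme.{u})) :
    x ∈ Set.range (dchart φ hf hd) ↔ x.1 ∈ Proj.basicOpen ℬ (φ f) := by
  rw [← Proj.opensRange_awayι ℬ (φ f) (map_mem φ hf) hd]
  constructor
  · rintro ⟨y, rfl⟩
    exact ⟨y, by rw [← pchart_ι φ hd hf]; rfl⟩
  · rintro ⟨y, hy⟩
    refine ⟨y, (RelCone.domOpen φ).ι.isOpenEmbedding.injective ?_⟩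
    show (dchart φ hf hd ≫ (RelCone.domOpen φ).ι) y = x.1
    rw [pchart_ι]
    exact hy

theorem exists_pchart (x : (RelCone.domOpen φ : Scheme.{u})) :
    ∃ (d : ℕ) (f : A) (hd : 0 < d) (hf : f ∈ 𝒜 d), x ∈ Set.range (dchart φ hf hd) := by
  obtain ⟨d, f, hd, hf, hx⟩ := exists_hom_of_mem_domOpen φ x.2
  exact ⟨d, f, hd, hf, (mem_range_pchart φ hd hf x).mpr ((ProjectiveSpectrum.mem_basicOpen _ _ _).mpr hx)⟩

theorem map_awayMap {d e : ℕ} {f g x : A} (hf : f ∈ 𝒜 d) (hg : g ∈ 𝒜 e) (hx : x = f * g)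
    (hx' : φ x = φ f * φ g) :
    (awayMap ℬ (map_mem φ hg) hx').comp (Away.map φ f) = (Away.map φ x).comp (awayMap 𝒜 hg hx) := by
  refine RingHom.ext fun z => ?_
  obtain ⟨n, a, ha, rfl⟩ := z.mk_surjective 𝒜 hf
  simp only [RingHom.comp_apply, Away.map_mk, awayMap_mk, map_mul, map_pow]

/-- The morphism `G(φ) ⟶ Proj A`. -/
theorem existsUnique_proj :
    ∃! p : (RelCone.domOpen φ : Scheme.{u}) ⟶ Proj 𝒜,
      ∀ (d : ℕ) (f : A) (hd : 0 < d) (hf : f ∈ 𝒜 d),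
        dchart φ hf hd ≫ p =
          Spec.map (CommRingCat.ofHom (Away.map φ f)) ≫ Proj.awayι 𝒜 f hf hd := by
  let I := {i : ℕ × A // 0 < i.1 ∧ i.2 ∈ 𝒜 i.1}
  let a : ∀ i j : I, Spec (CommRingCat.of (Away ℬ (φ (i.1.2 * j.1.2)))) ⟶ Spec (CommRingCat.of (Away ℬ (φ i.1.2))) :=
    fun i j => Spec.map (CommRingCat.ofHom (awayMap ℬ (map_mem φ j.2.2) (map_mul φ i.1.2 j.1.2)))
  let b : ∀ i j : I, Spec (CommRingCat.of (Away ℬ (φ (i.1.2 * j.1.2)))) ⟶ Spec (CommRingCat.of (Away ℬ (φ j.1.2))) :=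
    fun i j => Spec.map (CommRingCat.ofHom (awayMap ℬ (map_mem φ i.2.2) ((map_mul φ i.1.2 j.1.2).trans (mul_comm _ _))))
  have hfull : ∀ i j : I, a i j ≫ dchart φ i.2.2 i.2.1 =
      dchart φ (SetLike.mul_mem_graded i.2.2 j.2.2) (Nat.add_pos_left i.2.1 _) := fun i j => by
    rw [← cancel_mono (RelCone.domOpen φ).ι, Category.assoc, pchart_ι, pchart_ι, Proj.SpecMap_awayMap_awayι]
  have hfullb : ∀ i j : I, b i j ≫ dchart φ j.2.2 j.2.1 =
      dchart φ (SetLike.mul_mem_graded i.2.2 j.2.2) (Nat.add_pos_left i.2.1 _) := fun i j => by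
    rw [← cancel_mono (RelCone.domOpen φ).ι, Category.assoc, pchart_ι, pchart_ι, Proj.SpecMap_awayMap_awayι]
    rfl
  have : ∀ i j : I, IsOpenImmersion (a i j ≫ dchart φ i.2.2 i.2.1) := fun i j => by
    rw [hfull]; infer_instance
  obtain ⟨p, hp, hu⟩ := existsUnique_of_charts (fun i : I => Spec (CommRingCat.of (Away ℬ (φ i.1.2))))
    (fun i => dchart φ i.2.2 i.2.1)
    (fun x => by
      obtain ⟨d, f, hd, hf, hx⟩ := exists_pchart φ x
      exact ⟨⟨(d, f), hd, hf⟩, hx⟩)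
    _ a b (fun i j => (hfull i j).trans (hfullb i j).symm)
    (fun i j x hx => by
      rw [hfull, mem_range_pchart, map_mul, Proj.basicOpen_mul]
      exact ⟨(mem_range_pchart φ i.2.1 i.2.2 x).mp hx.1, (mem_range_pchart φ j.2.1 j.2.2 x).mp hx.2⟩)
    (fun i => Spec.map (CommRingCat.ofHom (Away.map φ i.1.2)) ≫ Proj.awayι 𝒜 i.1.2 i.2.2 i.2.1)
    (fun i j => by
      simp only [a, b]
      rw [← Spec.map_comp_assoc, ← Spec.map_comp_assoc, ← CommRingCat.ofHom_comp, ← CommRingCat.ofHom_comp,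
        map_awayMap φ i.2.2 j.2.2 rfl, map_awayMap φ j.2.2 i.2.2 (mul_comm i.1.2 j.1.2), CommRingCat.ofHom_comp,
        CommRingCat.ofHom_comp, Spec.map_comp_assoc, Spec.map_comp_assoc,
        Proj.SpecMap_awayMap_awayι, Proj.SpecMap_awayMap_awayι]
      rfl)
  exact ⟨p, fun d f hd hf => hp ⟨(d, f), hd, hf⟩, fun q hq => hu q fun i => hq i.1.1 i.1.2 i.2.1 i.2.2⟩

section

variable {p : (RelCone.domOpen φ : Scheme.{u}) ⟶ Proj 𝒜}
  (hp : ∀ (d : ℕ) (f : A) (hd : 0 < d) (hf : f ∈ 𝒜 d),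
    dchart φ hf hd ≫ p = Spec.map (CommRingCat.ofHom (Away.map φ f)) ≫ Proj.awayι 𝒜 f hf hd)

include hp in
theorem preimage_basicOpen_proj {d : ℕ} {f : A} (hd : 0 < d) (hf : f ∈ 𝒜 d) :
    p ⁻¹ᵁ Proj.basicOpen 𝒜 f = (RelCone.domOpen φ).ι ⁻¹ᵁ Proj.basicOpen ℬ (φ f) := by
  refine Opens.ext (Set.ext fun x => ?_)
  obtain ⟨e, g, he, hg, y, rfl⟩ := exists_pchart φ x
  have h : dchart φ hg he ⁻¹ᵁ (p ⁻¹ᵁ Proj.basicOpen 𝒜 f) =
      dchart φ hg he ⁻¹ᵁ ((RelCone.domOpen φ).ι ⁻¹ᵁ Proj.basicOpen ℬ (φ f)) := by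
    rw [← Scheme.Hom.comp_preimage, ← Scheme.Hom.comp_preimage, hp e g he hg, pchart_ι, Scheme.Hom.comp_preimage,
      Proj.awayι_preimage_basicOpen 𝒜 hg he hf hd]
    refine Eq.trans ?_ (Proj.awayι_preimage_basicOpen ℬ (map_mem φ hg) he (map_mem φ hf) hd).symm
    refine Opens.ext (Set.ext fun z => ?_)
    show Away.map φ g (Away.isLocalizationElem hg hf) ∉ z.asIdeal ↔ _
    have e1 : Away.map φ g (Away.isLocalizationElem hg hf) = Away.isLocalizationElem (map_mem φ hg) (map_mem φ hf) := by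
      simp only [Away.isLocalizationElem, Away.map_mk, map_pow]
    rw [e1]
    rfl
  exact SetLike.ext_iff.mp h y

include hp in
theorem isAffineHom_proj : IsAffineHom p := by
  refine isAffineHom_of_forall_exists_isAffineOpen p fun y => ?_
  obtain ⟨d, f, hd, hf, hfy⟩ : ∃ (d : ℕ) (f : A), 0 < d ∧ f ∈ 𝒜 d ∧ f ∉ y.asHomogeneousIdeal.toIdeal := by
    by_contra hc
    push Not at hc
    exact y.not_irrelevant_le ((HomogeneousIdeal.toIdeal_irrelevant_le 𝒜).mpr fun i hi z hz => hc i z hi hz)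
  refine ⟨_, hfy, Proj.isAffineOpen_basicOpen 𝒜 f hf hd, ?_⟩
  rw [preimage_basicOpen_proj φ hp hd hf]
  refine (Proj.isAffineOpen_basicOpen ℬ (φ f) (map_mem φ hf) hd).preimage_of_isOpenImmersion (RelCone.domOpen φ).ι ?_
  rw [Scheme.Opens.opensRange_ι]
  exact fun x hx => mem_domOpen_of φ hd hf ((ProjectiveSpectrum.mem_basicOpen _ _ _).mp hx)

end

/-- Every point is in `G(φ)` when large degrees lift. -/
theorem domOpen_eq_top {N : ℕ} (hlift : ∀ n, N ≤ n → ∀ b ∈ ℬ n, ∃ a ∈ 𝒜 n, φ a = b) :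
    RelCone.domOpen φ = ⊤ := by
  refine eq_top_iff.mpr fun x _ => ?_
  obtain ⟨d, b, hd, hb, hbx⟩ : ∃ (d : ℕ) (b : B), 0 < d ∧ b ∈ ℬ d ∧ b ∉ x.asHomogeneousIdeal.toIdeal := by
    by_contra hc
    push Not at hc
    exact x.not_irrelevant_le ((HomogeneousIdeal.toIdeal_irrelevant_le ℬ).mpr fun i hi z hz => hc i z hi hz)
  obtain ⟨a, ha, hab⟩ := hlift ((N + 1) • d) ((Nat.le_succ N).trans (Nat.le_mul_of_pos_right _ hd)) (b ^ (N + 1))
    (SetLike.pow_mem_graded (N + 1) hb)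
  exact mem_domOpen_of φ (Nat.mul_pos N.succ_pos hd) ha fun h => hbx (x.isPrime.mem_of_pow_mem (N + 1) (hab ▸ h))

theorem away_map_surjective' {N : ℕ} (hlift : ∀ n, N ≤ n → ∀ b ∈ ℬ n, ∃ a ∈ 𝒜 n, φ a = b) {d : ℕ} (hd : 0 < d) {s : A}
    (hs : s ∈ 𝒜 d) : Function.Surjective (Away.map φ s) := by
  intro y
  obtain ⟨n, b, hb, rfl⟩ := Away.mk_surjective ℬ (map_mem φ hs) y
  obtain ⟨a, ha, hab⟩ := hlift ((N + n) • d) ((Nat.le_add_right N n).trans (Nat.le_mul_of_pos_right _ hd)) (φ s ^ N * b)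
    (by rw [add_nsmul]; exact SetLike.mul_mem_graded (SetLike.pow_mem_graded N (map_mem φ hs)) hb)
  refine ⟨Away.mk 𝒜 hs (N + n) a ha, ?_⟩
  rw [Away.map_mk]
  apply HomogeneousLocalization.val_injective
  simp only [Away.val_mk, Localization.mk_eq_mk_iff, Localization.r_iff_exists, hab]
  exact ⟨1, by simp [pow_add]; ring⟩

theorem away_map_injective' {N : ℕ} (hinj : ∀ n, N ≤ n → ∀ a ∈ 𝒜 n, φ a = 0 → a = 0) {d : ℕ} (hd : 0 < d) {s : A}
    (hs : s ∈ 𝒜 d) : Function.Injective (Away.map φ s) := by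
  rw [injective_iff_map_eq_zero]
  intro x hx
  obtain ⟨n, a, ha, rfl⟩ := Away.mk_surjective 𝒜 hs x
  rw [Away.map_mk] at hx
  have hx' := congrArg HomogeneousLocalization.val hx
  rw [Away.val_mk, HomogeneousLocalization.val_zero, Localization.mk_eq_mk', IsLocalization.mk'_eq_zero_iff] at hx'
  obtain ⟨⟨_, M, rfl⟩, hM⟩ := hx'
  have hM' : φ s ^ M * φ a = 0 := hM
  have h0 : s ^ (N + M) * a = 0 := by
    refine hinj ((N + M) • d + n • d)
      ((Nat.le_add_right N M).trans ((Nat.le_mul_of_pos_right _ hd).trans (Nat.le_add_right _ _))) _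
      (SetLike.mul_mem_graded (SetLike.pow_mem_graded (N + M) hs) ha) ?_
    rw [map_mul, map_pow, pow_add, mul_assoc, hM', mul_zero]
  apply HomogeneousLocalization.val_injective
  rw [Away.val_mk, HomogeneousLocalization.val_zero, Localization.mk_eq_mk', IsLocalization.mk'_eq_zero_iff]
  exact ⟨⟨_, N + M, rfl⟩, h0⟩

section step

variable {σ' τ' A' B' : Type u} [CommRing A'] [SetLike σ' A'] [AddSubgroupClass σ' A']
  [CommRing B'] [SetLike τ' B'] [AddSubgroupClass τ' B'] {𝒜' : ℕ → σ'} [GradedRing 𝒜'] {ℬ' : ℕ → τ'} [GradedRing ℬ']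

theorem awayι_comp_map' (ρ : 𝒜 →+*ᵍ 𝒜') (hρ : HomogeneousIdeal.irrelevant 𝒜' ≤ (HomogeneousIdeal.irrelevant 𝒜).map ρ)
    {d : ℕ} (hd : 0 < d) (s : A) (hs : s ∈ 𝒜 d) (s' : A') (hs' : s' ∈ 𝒜' d) (e : ρ s = s')
    (hle : Submonoid.powers s ≤ (Submonoid.powers s').comap ρ) :
    Proj.awayι 𝒜' s' hs' hd ≫ Proj.map ρ hρ =
      Spec.map (CommRingCat.ofHom (HomogeneousLocalization.map ρ hle)) ≫ Proj.awayι 𝒜 s hs hd := by
  subst e
  exact Proj.awayι_comp_map ρ hρ hd s hs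

/-- Restricting a standard chart of `G(φ)` to a standard chart of a localisation of it. -/
theorem exists_chart_step (ρ : 𝒜 →+*ᵍ 𝒜') (hρ : HomogeneousIdeal.irrelevant 𝒜' ≤ (HomogeneousIdeal.irrelevant 𝒜).map ρ)
    (φ' : 𝒜' →+*ᵍ ℬ') (ρ' : ℬ →+*ᵍ ℬ')
    (hρ' : HomogeneousIdeal.irrelevant ℬ' ≤ (HomogeneousIdeal.irrelevant ℬ).map ρ')
    (hcomm : ∀ x, ρ' (φ x) = φ' (ρ x)) {d e : ℕ} (hd : 0 < d) (f : A) (hf : f ∈ 𝒜 d) (h : A') (hh : h ∈ 𝒜' e)
    (k : A') (hk : k = ρ f * h) (hkd : k ∈ 𝒜' (d + e)) (hde : 0 < d + e) :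
    ∃ a : Spec (CommRingCat.of (Away ℬ' (φ' k))) ⟶ Spec (CommRingCat.of (Away ℬ (φ f))),
      a ≫ Proj.awayι ℬ (φ f) (map_mem φ hf) hd =
          Proj.awayι ℬ' (φ' k) (map_mem φ' hkd) hde ≫ Proj.map ρ' hρ' ∧
      a ≫ Spec.map (CommRingCat.ofHom (Away.map φ f)) ≫ Proj.awayι 𝒜 f hf hd =
          Spec.map (CommRingCat.ofHom (Away.map φ' k)) ≫ Proj.awayι 𝒜' k hkd hde ≫ Proj.map ρ hρ := by
  have hle' : Submonoid.powers (φ f) ≤ (Submonoid.powers (φ' (ρ f))).comap ρ' := by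
    rintro _ ⟨n, rfl⟩; exact ⟨n, by simp [hcomm]⟩
  have hk' : φ' k = φ' (ρ f) * φ' h := by rw [hk, map_mul]
  refine ⟨Spec.map (CommRingCat.ofHom (awayMap ℬ' (map_mem φ' hh) hk')) ≫
    Spec.map (CommRingCat.ofHom (HomogeneousLocalization.map ρ' hle')), ?_, ?_⟩
  · rw [Category.assoc, ← awayι_comp_map' ρ' hρ' hd (φ f) (map_mem φ hf) (φ' (ρ f))
      (map_mem φ' (map_mem ρ hf)) (hcomm f) hle', Proj.SpecMap_awayMap_awayι_assoc]
  · have e1 : (HomogeneousLocalization.map ρ' hle').comp (Away.map φ f) =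
        (Away.map φ' (ρ f)).comp (Away.map ρ f) := by
      refine RingHom.ext fun z => ?_
      obtain ⟨n, a, ha, rfl⟩ := Away.mk_surjective 𝒜 hf z
      apply HomogeneousLocalization.val_injective
      simp only [RingHom.comp_apply, Away.map_mk]
      simp [Away.mk, HomogeneousLocalization.map_mk, Away.map, hcomm]
    simp only [Category.assoc]
    have e2 : (awayMap ℬ' (map_mem φ' hh) hk').comp ((HomogeneousLocalization.map ρ' hle').comp (Away.map φ f)) =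
        ((Away.map φ' k).comp (awayMap 𝒜' hh hk)).comp (Away.map ρ f) := by
      rw [e1, ← RingHom.comp_assoc, map_awayMap φ' (map_mem ρ hf) hh hk hk']
    have e3 := congrArg (fun r => Spec.map (CommRingCat.ofHom r)) e2
    simp only [CommRingCat.ofHom_comp, Spec.map_comp, Category.assoc] at e3
    rw [reassoc_of% e3, ← Proj.awayι_comp_map ρ hρ hd f hf, Proj.SpecMap_awayMap_awayι_assoc]

end step

end Groth.Agent.RelProjBasic
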