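import Groth.Prelude.Def_RelSpec2
import Mathlib.RingTheory.GradedAlgebra.Radical
import Groth.Agent.RelProjBasic.Dom

/-!
# The pointed affine cone of a quasi-coherent graded algebra
-/

set_option autoImplicit false
set_option maxHeartbeats 800000
universe u
open CategoryTheory CategoryTheory.Limits AlgebraicGeometry TopologicalSpace Opposite
open scoped HomogeneousIdeal

set_option backward.isDefEq.respectTransparency false

namespace Groth.Agent.RelProjBasic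

variable {S : Scheme.{u}} (𝒮 : RelProj.QCGrAlg S)

theorem mem_vertexCompl {R : CommRingCat.{u}} {𝒜 : ℕ → AddSubgroup R} [GradedRing 𝒜] (x : Spec R) :
    x ∈ RelCone.vertexCompl 𝒜 ↔ ¬ (𝒜₊).toIdeal ≤ x.asIdeal := Iff.rfl

theorem preimage_vertexCompl_res (U : S.Opens) (hU : IsAffineOpen U) (r : Γ(S, U)) :
    Spec.map (𝒮.presheaf.map (homOfLE (S.basicOpen_le r)).op) ⁻¹ᵁ RelCone.vertexCompl (𝒮.deg U hU) =
      RelCone.vertexCompl (𝒮.deg (S.basicOpen r) (hU.basicOpen r)) := by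
  refine Opens.ext (Set.ext fun x => ?_)
  let ρ := 𝒮.res hU (hU.basicOpen r) (S.basicOpen_le r)
  show ¬ ((𝒮.deg U hU)₊).toIdeal ≤ x.asIdeal.comap (𝒮.presheaf.map (homOfLE (S.basicOpen_le r)).op).hom ↔
    ¬ ((𝒮.deg (S.basicOpen r) (hU.basicOpen r))₊).toIdeal ≤ x.asIdeal
  refine not_congr ⟨fun h => ?_, fun h => ?_⟩
  · refine le_trans (show _ ≤ _ from 𝒮.irrelevant_le_map U hU r) ?_
    exact Ideal.map_le_iff_le_comap.mpr h
  · exact (HomogeneousIdeal.toIdeal_irrelevant_le _).mpr fun i hi a ha =>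
      h (HomogeneousIdeal.mem_irrelevant_of_mem _ hi (ρ.map_mem ha))

/-- Over an affine open, the pointed cone is the complement of the vertex locus. -/
theorem preimage_pointedCone (U : S.Opens) (hU : IsAffineOpen U) :
    𝒮.toQCAlg.ι U hU ⁻¹ᵁ RelCone.pointedCone 𝒮 = RelCone.vertexCompl (𝒮.deg U hU) := by
  refine Opens.ext (Set.ext fun x => ⟨fun hx => ?_, fun hx => ?_⟩)
  · obtain ⟨⟨V, hV⟩, y, hy, hyx⟩ := Opens.mem_iSup.mp hx
    replace hyx : 𝒮.toQCAlg.ι V hV y = 𝒮.toQCAlg.ι U hU x := hyx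
    have hU' : 𝒮.toQCAlg.π (𝒮.toQCAlg.ι U hU x) ∈ U :=
      (𝒮.toQCAlg.π_preimage U hU).ge ⟨x, rfl⟩
    have hV' : 𝒮.toQCAlg.π (𝒮.toQCAlg.ι U hU x) ∈ V :=
      hyx ▸ (𝒮.toQCAlg.π_preimage V hV).ge ⟨y, rfl⟩
    obtain ⟨r, s, hrs, hxr⟩ := exists_basicOpen_le_affine_inter hU hV _ ⟨hU', hV'⟩
    obtain ⟨w, hw⟩ := (𝒮.toQCAlg.π_preimage _ (hU.basicOpen r)).le (show 𝒮.toQCAlg.ι U hU x ∈ 𝒮.toQCAlg.π ⁻¹ᵁ S.basicOpen r from hxr)
    have eU := 𝒮.toQCAlg.ι_res (U := ⟨U, hU⟩) (homOfLE (Scheme.AffineZariskiSite.basicOpen_le ⟨U, hU⟩ r))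
    have key : ∀ (W : S.Opens) (hW : IsAffineOpen W) (eW : W = S.basicOpen s) (w : Spec (𝒮.presheaf.obj (op W))),
        𝒮.toQCAlg.ι W hW w = 𝒮.toQCAlg.ι V hV y → w ∈ RelCone.vertexCompl (𝒮.deg W hW) := by
      rintro W hW rfl w e
      have eV := 𝒮.toQCAlg.ι_res (U := ⟨V, hV⟩) (homOfLE (Scheme.AffineZariskiSite.basicOpen_le ⟨V, hV⟩ s))
      have : Spec.map (𝒮.presheaf.map (homOfLE (S.basicOpen_le s)).op) w = y :=
        (𝒮.toQCAlg.ι V hV).isOpenEmbedding.injective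
          ((congrArg (fun q : Spec (𝒮.presheaf.obj (op (S.basicOpen s))) ⟶ 𝒮.toQCAlg.spec => q.base w) eV).trans e)
      rw [← preimage_vertexCompl_res 𝒮 V hV s]
      show Spec.map _ w ∈ RelCone.vertexCompl _
      rw [this]
      exact hy
    have hwx : Spec.map (𝒮.presheaf.map (homOfLE (S.basicOpen_le r)).op) w = x :=
      (𝒮.toQCAlg.ι U hU).isOpenEmbedding.injective
        ((congrArg (fun q : Spec (𝒮.presheaf.obj (op (S.basicOpen r))) ⟶ 𝒮.toQCAlg.spec => q.base w) eU).trans hw)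
    have := key _ (hU.basicOpen r) hrs w (hw.trans hyx.symm)
    rw [← preimage_vertexCompl_res 𝒮 U hU r] at this
    exact hwx ▸ this
  · exact Opens.mem_iSup.mpr ⟨⟨U, hU⟩, x, hx, rfl⟩

/-- A prime containing `ψ(A₊)` contains `B₊` when `G(ψ)` is everything. -/
theorem irrelevant_le_of_domOpen_eq_top {σ τ A B : Type u} [CommRing A] [SetLike σ A] [AddSubgroupClass σ A]
    [CommRing B] [SetLike τ B] [AddSubgroupClass τ B] {𝒜 : ℕ → σ} [GradedRing 𝒜] {ℬ : ℕ → τ} [GradedRing ℬ]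
    (ψ : 𝒜 →+*ᵍ ℬ) (h : RelCone.domOpen ψ = ⊤) {P : Ideal B} [hP : P.IsPrime]
    (hψ : (𝒜₊).toIdeal ≤ P.comap ψ) : (ℬ₊).toIdeal ≤ P := by
  by_contra hne
  let H := P.homogeneousCore ℬ
  have hH : ¬ ℬ₊ ≤ H := fun hle => hne (le_trans hle (P.toIdeal_homogeneousCore_le ℬ))
  let x : Proj ℬ := ⟨H, hP.homogeneousCore, hH⟩
  obtain ⟨d, f, hd, hf, hfx⟩ := exists_hom_of_mem_domOpen ψ (h.ge (Opens.mem_top x))
  refine hfx ?_
  exact Ideal.mem_homogeneousCore_of_homogeneous_of_mem ⟨d, Graded.map_mem ψ hf⟩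
    (hψ (HomogeneousIdeal.mem_irrelevant_of_mem _ hd hf))

variable {S' : Scheme.{u}} {𝒮' : RelProj.QCGrAlg S'} (Φ : 𝒮'.toQCAlg.spec ⟶ 𝒮.toQCAlg.spec)

theorem preimage_pointedCone_pair {U : S.Opens} (hU : IsAffineOpen U) {U' : S'.Opens} (hU' : IsAffineOpen U')
    (f : 𝒮.presheaf.obj (op U) ⟶ 𝒮'.presheaf.obj (op U'))
    (hf : 𝒮'.toQCAlg.ι U' hU' ≫ Φ = Spec.map f ≫ 𝒮.toQCAlg.ι U hU) :
    𝒮'.toQCAlg.ι U' hU' ⁻¹ᵁ (Φ ⁻¹ᵁ RelCone.pointedCone 𝒮) = Spec.map f ⁻¹ᵁ RelCone.vertexCompl (𝒮.deg U hU) := by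
  rw [← Scheme.Hom.comp_preimage, hf, Scheme.Hom.comp_preimage, preimage_pointedCone]

/-- Every point of `Spec 𝒮'` lies in a chart over a pair. -/
theorem exists_pair_chart (q : S' ⟶ S) (c : 𝒮'.toQCAlg.spec) :
    ∃ (U : S.Opens) (_ : IsAffineOpen U) (U' : S'.Opens) (hU' : IsAffineOpen U') (_ : U' ≤ q ⁻¹ᵁ U)
      (z : Spec (𝒮'.presheaf.obj (op U'))), 𝒮'.toQCAlg.ι U' hU' z = c := by
  obtain ⟨U, hU, hy, -⟩ := exists_isAffineOpen_mem_and_subset (x := q (𝒮'.toQCAlg.π c)) (U := ⊤) (Opens.mem_top _)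
  obtain ⟨U', hU', hy', hle⟩ := exists_isAffineOpen_mem_and_subset (x := 𝒮'.toQCAlg.π c) (U := q ⁻¹ᵁ U) hy
  obtain ⟨z, hz⟩ := (𝒮'.toQCAlg.π_preimage U' hU').le (show c ∈ 𝒮'.toQCAlg.π ⁻¹ᵁ U' from hy')
  exact ⟨U, hU, U', hU', hle, z, hz⟩

end Groth.Agent.RelProjBasic
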