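import Groth.Agent.RelProjBasic.QMapId
import Groth.Agent.RelProjBasic.Pointed

/-!
# The vertex of the projective cone
-/

set_option autoImplicit false
set_option maxHeartbeats 1600000
universe u
open CategoryTheory CategoryTheory.Limits AlgebraicGeometry TopologicalSpace Opposite HomogeneousLocalization Graded
open scoped HomogeneousIdeal

set_option backward.isDefEq.respectTransparency false

namespace Groth.Agent.RelProjBasic

variable {Y PC : Scheme.{u}} {𝒮 𝒮h : RelProj.QCGrAlg Y} {ι : 𝒮.toQCAlg ⟶ 𝒮h.toQCAlg}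
  {z : 𝒮h.presheaf.obj (op ⊤)} (hz : RelCone.IsPolyOver 𝒮 𝒮h ι z) {pC : PC ⟶ Y}
  {chartC : ∀ (U : Y.Opens) (hU : IsAffineOpen U), (((pC ⁻¹ᵁ U : PC.Opens) : Scheme.{u}) ≅ Proj (𝒮h.deg U hU))}
  (hPC : RelProj.IsRelProj 𝒮h pC chartC)

include hPC in
theorem pointedProjCone_eq_domQ :
    RelCone.pointedProjCone 𝒮 hz pC chartC = RelProj.domQ (RelProj.QGrHom.ofHom ι hz.graded) pC chartC := by
  have h : ∀ U : Y.affineOpens, RelProj.domQ (RelProj.QGrHom.ofHom ι hz.graded) pC chartC ⊓ pC ⁻¹ᵁ (U : Y.Opens) =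
      RelProj.emb pC chartC U.1 U.2 ''ᵁ RelCone.domOpen (RelProj.gradedHomAt ι hz.graded U.1 U.2) := fun U => by
    rw [domQ_inf _ hPC U.1 U.2, self_ofHom hz.graded U.1 U.2]
  refine le_antisymm (iSup_le fun U => (h U).ge.trans inf_le_left) fun x hx => ?_
  obtain ⟨U, hU, hxU, -⟩ := exists_isAffineOpen_mem_and_subset (x := pC x) (U := ⊤) (Opens.mem_top _)
  exact Opens.mem_iSup.mpr ⟨⟨U, hU⟩, (h ⟨U, hU⟩).le ⟨hx, hxU⟩⟩

include hPC in
theorem pointedProjCone_inf (U : Y.Opens) (hU : IsAffineOpen U) :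
    RelCone.pointedProjCone 𝒮 hz pC chartC ⊓ pC ⁻¹ᵁ U =
      RelProj.emb pC chartC U hU ''ᵁ RelCone.domOpen (RelProj.gradedHomAt ι hz.graded U hU) := by
  rw [pointedProjCone_eq_domQ hz hPC, domQ_inf _ hPC U hU, self_ofHom hz.graded U hU]

section ring

variable (h0 : RelCone.StrZeroBij 𝒮) {aug : 𝒮.toQCAlg ⟶ RelSpec.QCAlg.unit Y} (haug : RelCone.IsAugmentation 𝒮 aug)
  (U : Y.Opens) (hU : IsAffineOpen U)

include h0 in
/-- Homogeneous elements of `𝒮[z]` are constants times powers of `z` modulo `𝒮₊`. -/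
theorem exists_sub_mem {n : ℕ} (a : 𝒮h.presheaf.obj (op U)) (ha : a ∈ 𝒮h.deg U hU n) :
    ∃ r : Γ(Y, U), a - RelProj.gradedHomAt ι hz.graded U hU ((𝒮.str.app (op U)).hom r) * RelCone.restrictTop 𝒮h z U ^ n ∈
      (((𝒮.deg U hU)₊).map (RelProj.gradedHomAt ι hz.graded U hU)).toIdeal := by
  classical
  let ψ := RelProj.gradedHomAt ι hz.graded U hU
  let e := RelCone.restrictTop 𝒮h z U
  let J := ((𝒮.deg U hU)₊).map ψ
  obtain ⟨P, hP⟩ := (hz.bij U hU).2 a
  let N := P.natDegree + 1 + n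
  have hPN : a = ∑ j ∈ Finset.range N, ψ (P.coeff j) * e ^ j := by
    rw [← hP]
    exact Polynomial.eval₂_eq_sum_range' _ (Nat.lt_add_right n P.natDegree.lt_succ_self) _
  choose r hr using fun j => (h0 U hU).2 (DirectSum.decompose (𝒮.deg U hU) (P.coeff j) 0)
  have hmem : ∀ j, P.coeff j - (𝒮.str.app (op U)).hom (r j) ∈ ((𝒮.deg U hU)₊).toIdeal := fun j => by
    show _ ∈ HomogeneousIdeal.irrelevant (𝒮.deg U hU)
    rw [← RelProj.QCGrAlg.strZero_apply_coe 𝒮 U hU, hr j, HomogeneousIdeal.mem_irrelevant_iff, map_sub,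
      GradedRing.proj_apply, GradedRing.proj_apply,
      DirectSum.decompose_of_mem_same _ (SetLike.coe_mem _), sub_self]
  have hdeg : ∀ j, ψ ((𝒮.str.app (op U)).hom (r j)) * e ^ j ∈ 𝒮h.deg U hU j := fun j => by
    have := SetLike.mul_mem_graded (A := 𝒮h.deg U hU) (Graded.map_mem ψ (𝒮.str_mem U hU (r j))) (SetLike.pow_mem_graded j (hz.deg_z U hU))
    simpa only [zero_add, smul_eq_mul, mul_one] using this
  have hb : a - ∑ j ∈ Finset.range N, ψ ((𝒮.str.app (op U)).hom (r j)) * e ^ j ∈ J.toIdeal := by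
    rw [hPN, ← Finset.sum_sub_distrib]
    refine J.toIdeal.sum_mem fun j _ => ?_
    rw [← sub_mul, ← map_sub]
    exact J.toIdeal.mul_mem_right _ (Ideal.mem_map_of_mem ψ (hmem j))
  have := J.isHomogeneous n hb
  rw [DirectSum.decompose_sub, DirectSum.sub_apply, AddSubgroupClass.coe_sub, DirectSum.decompose_of_mem_same _ ha,
    DirectSum.decompose_sum, DFinsupp.finsetSum_apply, AddSubmonoidClass.coe_finsetSum, Finset.sum_eq_single n] at this
  · rw [DirectSum.decompose_of_mem_same _ (hdeg n)] at this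
    exact ⟨r n, this⟩
  · exact fun j _ hj => DirectSum.decompose_of_mem_ne _ (hdeg j) hj
  · intro h
    exact absurd (Finset.mem_range.mpr (by omega)) h

/-- The point of `D₊(z)` lies under a homogeneous element iff the fraction lies in the prime. -/
theorem awayι_mem_iff {n : ℕ} (hn : 0 < n) {a : 𝒮h.presheaf.obj (op U)} (ha : a ∈ 𝒮h.deg U hU n)
    (q : Spec (CommRingCat.of (Away (𝒮h.deg U hU) (RelCone.restrictTop 𝒮h z U)))) :
    a ∈ (Proj.awayι (𝒮h.deg U hU) (RelCone.restrictTop 𝒮h z U) (hz.deg_z U hU) one_pos q).asHomogeneousIdeal ↔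
      Away.mk (𝒮h.deg U hU) (hz.deg_z U hU) n a (by simpa using ha) ∈ q.asIdeal := by
  have h := SetLike.ext_iff.mp (Proj.awayι_preimage_basicOpen (𝒮h.deg U hU) (hz.deg_z U hU) one_pos ha hn) q
  refine not_iff_not.mp ((ProjectiveSpectrum.mem_basicOpen _ _ _).symm.trans (h.trans (not_congr ?_)))
  refine iff_of_eq (congrArg (· ∈ q.asIdeal) (HomogeneousLocalization.val_injective _ ?_))
  simp [Away.isLocalizationElem]

include h0 haug in
theorem range_vertex :
    (RelCone.domOpen (RelProj.gradedHomAt ι hz.graded U hU) : Set (Proj (𝒮h.deg U hU)))ᶜ =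
      Set.range (Spec.map (aug.hom.app (op U)) ≫ Spec.map (CommRingCat.ofHom (hz.awayZToBase U hU)) ≫
        Proj.awayι (𝒮h.deg U hU) (RelCone.restrictTop 𝒮h z U) (hz.deg_z U hU) one_pos) := by
  classical
  let ψ := RelProj.gradedHomAt ι hz.graded U hU
  let e := RelCone.restrictTop 𝒮h z U
  let σ : Away (𝒮h.deg U hU) e →+* Γ(Y, U) := (aug.hom.app (op U)).hom.comp (hz.awayZToBase U hU)
  have hmap : Spec.map (aug.hom.app (op U)) ≫ Spec.map (CommRingCat.ofHom (hz.awayZToBase U hU)) =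
      Spec.map (CommRingCat.ofHom σ) := by
    rw [← Spec.map_comp]; rfl
  rw [reassoc_of% hmap]
  have hsec : ∀ r, (aug.hom.app (op U)).hom ((𝒮.str.app (op U)).hom r) = r := fun r =>
    ConcreteCategory.congr_hom (NatTrans.congr_app aug.comm (op U)) r
  have hσ : ∀ (n : ℕ) (a : 𝒮h.presheaf.obj (op U)) (ha : a ∈ 𝒮h.deg U hU (n • 1)),
      σ (Away.mk (𝒮h.deg U hU) (hz.deg_z U hU) n a ha) = (aug.hom.app (op U)).hom (hz.evalOne U hU a) := fun n a ha => by
    show (aug.hom.app (op U)).hom (hz.awayZToBase U hU _) = _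
    rw [hz.awayZToBase_of_val U hU _ a n (Away.val_mk ..)]
  have hkill : ∀ i, 0 < i → ∀ f ∈ 𝒮.deg U hU i, (aug.hom.app (op U)).hom f = 0 := fun i hi f hf => by
    obtain ⟨d, rfl⟩ := Nat.exists_eq_succ_of_ne_zero hi.ne'
    exact haug U hU d f hf
  refine Set.ext fun x => ⟨fun hx => ?_, ?_⟩
  · have hJ : ∀ f ∈ ((𝒮.deg U hU)₊).toIdeal, ψ f ∈ x.asHomogeneousIdeal := fun f hf => by
      by_contra h
      exact hx ((RelCone.mem_domOpen _ x).mpr ⟨f, hf, h⟩)
    have hJx : (((𝒮.deg U hU)₊).map ψ).toIdeal ≤ x.asHomogeneousIdeal.toIdeal := Ideal.map_le_iff_le_comap.mpr hJ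
    have he : e ∉ x.asHomogeneousIdeal := by
      intro he
      refine x.not_irrelevant_le ((HomogeneousIdeal.toIdeal_irrelevant_le _).mpr fun i hi a ha => ?_)
      obtain ⟨r, hr⟩ := exists_sub_mem hz h0 U hU a ha
      have := x.asHomogeneousIdeal.toIdeal.add_mem (hJx hr)
        (x.asHomogeneousIdeal.toIdeal.mul_mem_left (ψ ((𝒮.str.app (op U)).hom r)) (Ideal.pow_mem_of_mem _ he i hi))
      simpa [ψ, e] using this
    obtain ⟨q, rfl⟩ : x ∈ Set.range (Proj.awayι (𝒮h.deg U hU) e (hz.deg_z U hU) one_pos) :=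
      (Proj.opensRange_awayι (𝒮h.deg U hU) e (hz.deg_z U hU) one_pos).ge ((ProjectiveSpectrum.mem_basicOpen _ _ _).mpr he)
    let τ : Γ(Y, U) →+* Away (𝒮h.deg U hU) e :=
      ((fromZeroRingHom (𝒮h.deg U hU) (Submonoid.powers e)).comp (zeroHom ψ)).comp (𝒮.strZero U hU).hom
    have hd : ∀ t, t - τ (σ t) ∈ q.asIdeal := by
      intro t
      obtain ⟨n, a, ha, rfl⟩ := Away.mk_surjective (𝒮h.deg U hU) (hz.deg_z U hU) t
      have ha' : a * e ∈ 𝒮h.deg U hU (n + 1) := by
        have := SetLike.mul_mem_graded (A := 𝒮h.deg U hU) ha (hz.deg_z U hU)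
        simpa only [smul_eq_mul, mul_one] using this
      obtain ⟨r, hr⟩ := exists_sub_mem hz h0 U hU (a * e) ha'
      have hev : (aug.hom.app (op U)).hom (hz.evalOne U hU a) = r := by
        have : ∀ b ∈ (((𝒮.deg U hU)₊).map ψ).toIdeal, (aug.hom.app (op U)).hom (hz.evalOne U hU b) = 0 := by
          intro b hb
          refine (show (((𝒮.deg U hU)₊).map ψ).toIdeal ≤ RingHom.ker ((aug.hom.app (op U)).hom.comp (hz.evalOne U hU)) from
            Ideal.map_le_iff_le_comap.mpr ((HomogeneousIdeal.toIdeal_irrelevant_le _).mpr fun i hi f hf => ?_)) hb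
          show (aug.hom.app (op U)).hom (hz.evalOne U hU ((ι.hom.app (op U)).hom f)) = 0
          rw [hz.evalOne_ι]
          exact hkill i hi f hf
        have h := this _ hr
        rw [map_sub, map_mul, map_mul, map_pow, hz.evalOne_z, one_pow, mul_one, mul_one, map_sub, sub_eq_zero] at h
        refine h.trans ?_
        show (aug.hom.app (op U)).hom (hz.evalOne U hU ((ι.hom.app (op U)).hom _)) = r
        rw [hz.evalOne_ι, hsec]
      rw [hσ, hev]
      have hdeg : a * e - ψ ((𝒮.str.app (op U)).hom r) * e ^ (n + 1) ∈ 𝒮h.deg U hU (n + 1) := by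
        refine sub_mem ha' ?_
        have := SetLike.mul_mem_graded (A := 𝒮h.deg U hU) (Graded.map_mem ψ (𝒮.str_mem U hU r))
          (SetLike.pow_mem_graded (n + 1) (hz.deg_z U hU))
        simpa only [zero_add, smul_eq_mul, mul_one] using this
      have := (awayι_mem_iff hz U hU n.succ_pos hdeg q).mp (hJx hr)
      convert this using 1
      apply HomogeneousLocalization.val_injective
      simp only [HomogeneousLocalization.val_sub, Away.val_mk]
      rw [show (τ r).val = Localization.mk (ψ ((𝒮.str.app (op U)).hom r)) 1 from rfl, Localization.sub_mk,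
        Localization.mk_eq_mk_iff, Localization.r_iff_exists]
      exact ⟨1, by simp only [OneMemClass.coe_one, one_mul, mul_one, Submonoid.coe_mul, Nat.succ_eq_add_one, e]; ring⟩
    refine ⟨PrimeSpectrum.comap τ q, congrArg (Proj.awayι (𝒮h.deg U hU) e (hz.deg_z U hU) one_pos) ?_⟩
    refine PrimeSpectrum.ext (Ideal.ext fun t => ?_)
    show τ (σ t) ∈ q.asIdeal ↔ t ∈ q.asIdeal
    constructor
    · intro h
      simpa using q.asIdeal.add_mem (hd t) h
    · intro h
      simpa using q.asIdeal.sub_mem h (hd t)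
  · rintro ⟨w, rfl⟩ hx
    obtain ⟨d, f, hd, hf, hfx⟩ := exists_hom_of_mem_domOpen _ hx
    refine hfx ((awayι_mem_iff hz U hU hd (Graded.map_mem ψ hf) _).mpr ?_)
    show σ _ ∈ w.asIdeal
    rw [hσ]
    have h0' : (aug.hom.app (op U)).hom (hz.evalOne U hU ((ι.hom.app (op U)).hom f)) = 0 := by
      rw [hz.evalOne_ι]; exact hkill d hd f hf
    exact (congrArg (fun t : Γ(Y, U) => t ∈ w.asIdeal) h0').mpr (Submodule.zero_mem w.asIdeal)

end ring

end Groth.Agent.RelProjBasic
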