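import Groth.Agent.RelProjBasic.Local

/-!
# Gluing morphisms over the affine opens of the base
-/

set_option autoImplicit false
universe u
open CategoryTheory CategoryTheory.Limits AlgebraicGeometry Opposite TopologicalSpace
open scoped HomogeneousIdeal

namespace Groth.Agent.RelProjBasic

/-- Morphisms on the preimages of the affine opens, compatible with basic opens, glue uniquely. -/
theorem existsUnique_glue {Y P T : Scheme.{u}} (p : P ⟶ Y)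
    (m : ∀ (U : Y.Opens), IsAffineOpen U → ((p ⁻¹ᵁ U : P.Opens).toScheme ⟶ T))
    (hm : ∀ (U : Y.Opens) (hU : IsAffineOpen U) (r : Γ(Y, U)),
      P.homOfLE (p.preimage_mono (Y.basicOpen_le r)) ≫ m U hU = m (Y.basicOpen r) (hU.basicOpen r)) :
    ∃! h : P ⟶ T, ∀ (U : Y.Opens) (hU : IsAffineOpen U), (p ⁻¹ᵁ U).ι ≫ h = m U hU := by
  let 𝒰 := P.openCoverOfIsOpenCover _ (isOpenCover_preimage p)
  have hcomp : ∀ U V : Y.affineOpens, pullback.fst ((p ⁻¹ᵁ U.1).ι) ((p ⁻¹ᵁ V.1).ι) ≫ m U.1 U.2 =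
      pullback.snd ((p ⁻¹ᵁ U.1).ι) ((p ⁻¹ᵁ V.1).ι) ≫ m V.1 V.2 := by
    intro U V
    rw [← cancel_epi (isPullback_opens_inf (p ⁻¹ᵁ U.1) (p ⁻¹ᵁ V.1)).isoPullback.hom,
      IsPullback.isoPullback_hom_fst_assoc, IsPullback.isoPullback_hom_snd_assoc]
    let I := {rs : Γ(Y, U.1) × Γ(Y, V.1) // Y.basicOpen rs.1 = Y.basicOpen rs.2}
    have hle : ∀ i : I, p ⁻¹ᵁ Y.basicOpen i.1.1 ≤ p ⁻¹ᵁ U.1 ⊓ p ⁻¹ᵁ V.1 := fun i =>
      le_inf (p.preimage_mono (Y.basicOpen_le _)) (p.preimage_mono (i.2 ▸ Y.basicOpen_le _))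
    have hcov : ∀ x : (p ⁻¹ᵁ U.1 ⊓ p ⁻¹ᵁ V.1 : P.Opens).toScheme, ∃ i, x ∈ Set.range (P.homOfLE (hle i)) := by
      intro x
      obtain ⟨r, r', hrr, hxr⟩ := exists_basicOpen_le_affine_inter U.2 V.2 (p.base x.1) ⟨x.2.1, x.2.2⟩
      refine ⟨⟨(r, r'), hrr⟩, ⟨x.1, hxr⟩, (p ⁻¹ᵁ U.1 ⊓ p ⁻¹ᵁ V.1).ι.isOpenEmbedding.injective ?_⟩
      exact (Scheme.Hom.comp_apply _ _ _).symm.trans (congrArg (fun g => g.base ⟨x.1, hxr⟩) (P.homOfLE_ι (hle ⟨(r, r'), hrr⟩)))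
    choose idx hidx using hcov
    let 𝒲 : (p ⁻¹ᵁ U.1 ⊓ p ⁻¹ᵁ V.1 : P.Opens).toScheme.OpenCover :=
      { I₀ := I
        X := fun i => (p ⁻¹ᵁ Y.basicOpen i.1.1 : P.Opens).toScheme
        f := fun i => P.homOfLE (hle i)
        mem₀ := by
          rw [Scheme.presieve₀_mem_precoverage_iff]
          exact ⟨fun x => ⟨idx x, hidx x⟩, inferInstance⟩ }
    refine Scheme.Cover.hom_ext 𝒲 _ _ fun i => ?_
    show P.homOfLE (hle i) ≫ _ = P.homOfLE (hle i) ≫ _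
    rw [P.homOfLE_homOfLE_assoc, P.homOfLE_homOfLE_assoc, hm U.1 U.2 i.1.1]
    obtain ⟨⟨r, r'⟩, hrr⟩ := i
    have key : ∀ (W W' : Y.Opens) (h : IsAffineOpen W) (h' : IsAffineOpen W') (e : W = W') (hW : p ⁻¹ᵁ W ≤ p ⁻¹ᵁ V.1),
        (P.homOfLE (p.preimage_mono e.le)) ≫ m W' h' = m W h := by
      rintro W _ h h' rfl -
      simp
    rw [← key _ _ (U.2.basicOpen r) (V.2.basicOpen r') hrr (p.preimage_mono (hrr ▸ Y.basicOpen_le _)), ← hm V.1 V.2 r',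
      P.homOfLE_homOfLE_assoc]
  refine ⟨𝒰.glueMorphisms (fun U => m U.1 U.2) hcomp, fun U hU => 𝒰.ι_glueMorphisms _ hcomp ⟨U, hU⟩, fun h hh => ?_⟩
  exact Scheme.Cover.hom_ext 𝒰 _ _ fun U => (hh U.1 U.2).trans (𝒰.ι_glueMorphisms _ hcomp U).symm

section

variable {Y PA PB : Scheme.{u}} {𝒜 ℬ : RelProj.QCGrAlg Y}
  {φ : 𝒜.toQCAlg ⟶ ℬ.toQCAlg} {hφ : RelProj.IsGradedHom φ}
  {hirr : ∀ (U : Y.Opens) (hU : IsAffineOpen U),
    (ℬ.deg U hU)₊ ≤ ((𝒜.deg U hU)₊).map (RelProj.gradedHomAt φ hφ U hU)}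
  {pA : PA ⟶ Y} {pB : PB ⟶ Y}
  {chartA : ∀ (U : Y.Opens) (hU : IsAffineOpen U), (((pA ⁻¹ᵁ U : PA.Opens) : Scheme.{u}) ≅ Proj (𝒜.deg U hU))}
  {chartB : ∀ (U : Y.Opens) (hU : IsAffineOpen U), (((pB ⁻¹ᵁ U : PB.Opens) : Scheme.{u}) ≅ Proj (ℬ.deg U hU))}
  (hA : RelProj.IsRelProj 𝒜 pA chartA) (hB : RelProj.IsRelProj ℬ pB chartB)

theorem map_congr' {σ τ A B : Type u} [CommRing A] [SetLike σ A] [AddSubgroupClass σ A] [CommRing B] [SetLike τ B]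
    [AddSubgroupClass τ B] {𝒜 : ℕ → σ} [GradedRing 𝒜] {ℬ : ℕ → τ} [GradedRing ℬ] {φ ψ : 𝒜 →+*ᵍ ℬ} (e : φ = ψ)
    (hφ : HomogeneousIdeal.irrelevant ℬ ≤ (HomogeneousIdeal.irrelevant 𝒜).map φ)
    (hψ : HomogeneousIdeal.irrelevant ℬ ≤ (HomogeneousIdeal.irrelevant 𝒜).map ψ) :
    Proj.map φ hφ = Proj.map ψ hψ := by
  subst e; rfl

include hA hB in
theorem existsUnique_isRelProjMap : ∃! h : PB ⟶ PA, RelProj.IsRelProjMap φ hφ hirr chartA chartB h := by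
  refine existsUnique_glue pB _ fun U hU r => ?_
  let W := Y.basicOpen r
  have hW : IsAffineOpen W := hU.basicOpen r
  let ρA := 𝒜.res hU hW (Y.basicOpen_le r)
  let ρB := ℬ.res hU hW (Y.basicOpen_le r)
  have e : ρB.comp (RelProj.gradedHomAt φ hφ U hU) = (RelProj.gradedHomAt φ hφ W hW).comp ρA :=
    GradedRingHom.ext fun x =>
      (ConcreteCategory.congr_hom (φ.hom.naturality (homOfLE (Y.basicOpen_le r)).op) x).symm
  have hres : Proj.map ρA (𝒜.irrelevant_le_map U hU r) ≫ (chartA U hU).inv =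
      (chartA W hW).inv ≫ PA.homOfLE (pA.preimage_mono (Y.basicOpen_le r)) := by
    rw [Iso.comp_inv_eq, Category.assoc, hA.chart_res U hU r, Iso.inv_hom_id_assoc]
  have hsq : Proj.map ρB (ℬ.irrelevant_le_map U hU r) ≫ Proj.map (RelProj.gradedHomAt φ hφ U hU) (hirr U hU) =
      Proj.map (RelProj.gradedHomAt φ hφ W hW) (hirr W hW) ≫ Proj.map ρA (𝒜.irrelevant_le_map U hU r) := by
    rw [← Proj.map_comp, ← Proj.map_comp]
    exact map_congr' e _ _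
  rw [← Category.assoc, hB.chart_res U hU r]
  simp only [Category.assoc]
  rw [reassoc_of% hsq, reassoc_of% hres, PA.homOfLE_ι]

end

end Groth.Agent.RelProjBasic
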