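import Groth.Agent.RelProjBasic.ProjMap
import Mathlib.RingTheory.Spectrum.Prime.Topology

/-!
# `Proj` of a localisation at an element of degree zero
-/

set_option autoImplicit false
set_option maxHeartbeats 800000
universe u
open CategoryTheory CategoryTheory.Limits AlgebraicGeometry TopologicalSpace HomogeneousLocalization Graded

set_option backward.isDefEq.respectTransparency false

namespace Groth.Agent.RelProjBasic

variable {σ τ A B : Type u} [CommRing A] [SetLike σ A] [AddSubgroupClass σ A]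
  [CommRing B] [SetLike τ B] [AddSubgroupClass τ B] {𝒜 : ℕ → σ} [GradedRing 𝒜] {ℬ : ℕ → τ} [GradedRing ℬ]
  (ρ : 𝒜 →+*ᵍ ℬ) (c : 𝒜 0) (hu : IsUnit (zeroHom ρ c))
  (hsurj : ∀ b, ∃ (k : ℕ) (a : A), b * ρ c ^ k = ρ a) (hker : ∀ a, ρ a = 0 → ∃ k : ℕ, (c : A) ^ k * a = 0)

include hu hsurj hker in
theorem isLocalization_away_map {d : ℕ} {s : A} (hs : s ∈ 𝒜 d) :
    letI := (Away.map ρ s).toAlgebra
    IsLocalization.Away (fromZeroRingHom 𝒜 (Submonoid.powers s) c) (Away ℬ (ρ s)) := by
  classical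
  let _ := (Away.map ρ s).toAlgebra
  let z := fromZeroRingHom 𝒜 (Submonoid.powers s) c
  have hz : ∀ k : ℕ, (z ^ k).val = Localization.mk ((c : A) ^ k) 1 := fun k => by
    rw [HomogeneousLocalization.val_pow, show z.val = Localization.mk (c : A) 1 from rfl, Localization.mk_pow, one_pow]
  have hmap : Away.map ρ s z = fromZeroRingHom ℬ (Submonoid.powers (ρ s)) (zeroHom ρ c) := by
    apply HomogeneousLocalization.val_injective
    simp [z, fromZeroRingHom, Away.map, HomogeneousLocalization.map_mk, zeroHom]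
  refine IsLocalization.Away.mk z ?_ (fun y => ?_) (fun x y hxy => ?_)
  · show IsUnit (Away.map ρ s z)
    rw [hmap]
    exact hu.map _
  · obtain ⟨n, b, hb, rfl⟩ := Away.mk_surjective ℬ (map_mem ρ hs) y
    obtain ⟨k, a, ha⟩ := hsurj b
    have hbk : b * ρ c ^ k ∈ ℬ (n • d) := by
      have := SetLike.mul_mem_graded hb (SetLike.pow_mem_graded k (map_mem ρ c.2))
      simpa only [smul_eq_mul, mul_zero, add_zero] using this
    refine ⟨k, Away.mk 𝒜 hs n (DirectSum.decompose 𝒜 a (n • d) : A) (SetLike.coe_mem _), ?_⟩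
    show Away.mk ℬ (map_mem ρ hs) n b hb * (Away.map ρ s z) ^ k = Away.map ρ s _
    rw [hmap, Away.map_mk]
    apply HomogeneousLocalization.val_injective
    rw [HomogeneousLocalization.val_mul, HomogeneousLocalization.val_pow, Away.val_mk, Away.val_mk]
    rw [show (fromZeroRingHom ℬ (Submonoid.powers (ρ s)) (zeroHom ρ c)).val = Localization.mk (ρ (c : A)) 1 from rfl,
      Localization.mk_pow, one_pow, Localization.mk_mul, mul_one]
    congr 1
    rw [GradedRingHom.map_directSumDecompose, ← ha, DirectSum.decompose_of_mem_same _ hbk]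
  · have h0 : Away.map ρ s (x - y) = 0 := by rw [map_sub]; exact sub_eq_zero.mpr hxy
    obtain ⟨n, a, ha, hxa⟩ := Away.mk_surjective 𝒜 hs (x - y)
    rw [← hxa, Away.map_mk] at h0
    have h1 := congrArg HomogeneousLocalization.val h0
    rw [Away.val_mk, HomogeneousLocalization.val_zero, Localization.mk_eq_mk', IsLocalization.mk'_eq_zero_iff] at h1
    obtain ⟨⟨_, N, rfl⟩, hN⟩ := h1
    have hN' : ρ (s ^ N * a) = 0 := by rw [map_mul, map_pow]; exact hN
    obtain ⟨k, hk⟩ := hker _ hN'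
    refine ⟨k, sub_eq_zero.mp ?_⟩
    rw [← mul_sub, ← hxa]
    apply HomogeneousLocalization.val_injective
    rw [HomogeneousLocalization.val_mul, hz, Away.val_mk, Localization.mk_mul, HomogeneousLocalization.val_zero,
      Localization.mk_eq_mk', IsLocalization.mk'_eq_zero_iff]
    exact ⟨⟨_, N, rfl⟩, (mul_left_comm (s ^ N) _ a).trans hk⟩

variable (hρ : HomogeneousIdeal.irrelevant ℬ ≤ (HomogeneousIdeal.irrelevant 𝒜).map ρ)

include hu hsurj hker in
/-- Localising at an element of degree zero gives an open immersion of `Proj`s. -/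
theorem isOpenImmersion_map : IsOpenImmersion (Proj.map ρ hρ) :=
  map_of_away (P := @IsOpenImmersion) ρ hρ fun d s _ hs => by
    let _ := (Away.map ρ s).toAlgebra
    have := isLocalization_away_map ρ c hu hsurj hker hs
    exact IsOpenImmersion.of_isLocalization (R := CommRingCat.of (Away 𝒜 s)) (S := Away ℬ (ρ s))
      (fromZeroRingHom 𝒜 (Submonoid.powers s) c)

include hu hsurj hker in
/-- Its image is the preimage of the basic open of that element. -/
theorem range_map : Set.range (Proj.map ρ hρ) =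
    Proj.toSpecZero 𝒜 ⁻¹ᵁ (PrimeSpectrum.basicOpen c : (Spec (CommRingCat.of (𝒜 0))).Opens) := by
  ext x
  obtain ⟨⟨⟨d, hd⟩, ⟨s, hs⟩⟩, w, rfl⟩ : ∃ i, x ∈ Set.range ((Proj.affineOpenCover 𝒜).openCover.f i) :=
    ⟨_, ((Proj.affineOpenCover 𝒜).openCover.exists_eq x).choose_spec⟩
  let _ := (Away.map ρ s).toAlgebra
  have hloc := isLocalization_away_map ρ c hu hsurj hker hs
  have hr := PrimeSpectrum.localization_away_comap_range (Away ℬ (ρ s)) (fromZeroRingHom 𝒜 (Submonoid.powers s) c)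
  show Proj.awayι 𝒜 s hs hd w ∈ Set.range (Proj.map ρ hρ) ↔
    Proj.toSpecZero 𝒜 (Proj.awayι 𝒜 s hs hd w) ∈ PrimeSpectrum.basicOpen c
  have e : Proj.toSpecZero 𝒜 (Proj.awayι 𝒜 s hs hd w) =
      PrimeSpectrum.comap (fromZeroRingHom 𝒜 (Submonoid.powers s)) w :=
    congrArg (fun q => q.base w) (Proj.awayι_toSpecZero 𝒜 s hs hd)
  rw [e]
  refine Iff.trans ?_ (Set.ext_iff.mp hr w)
  constructor
  · rintro ⟨y, hy⟩
    have hys : y ∈ Proj.basicOpen ℬ (ρ s) := by
      rw [← Proj.map_preimage_basicOpen ρ hρ s]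
      show Proj.map ρ hρ y ∈ Proj.basicOpen 𝒜 s
      rw [hy]
      exact (Proj.opensRange_awayι 𝒜 s hs hd).le ⟨w, rfl⟩
    obtain ⟨v, rfl⟩ := (Proj.opensRange_awayι ℬ (ρ s) (map_mem ρ hs) hd).ge hys
    refine ⟨v, (Proj.awayι 𝒜 s hs hd).isOpenEmbedding.injective ?_⟩
    exact ((congrArg (fun q => q.base v) (Proj.awayι_comp_map ρ hρ hd s hs)).symm.trans hy)
  · rintro ⟨v, rfl⟩
    exact ⟨Proj.awayι ℬ (ρ s) (map_mem ρ hs) hd v, congrArg (fun q => q.base v) (Proj.awayι_comp_map ρ hρ hd s hs)⟩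

end Groth.Agent.RelProjBasic
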