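import Groth.Prelude.Def_RelProj
import Groth.Agent.RelProjBasic.LocalAway
import Groth.Agent.RelProjBasic.Glue
import Mathlib.AlgebraicGeometry.RelativeGluing
import Mathlib.AlgebraicGeometry.Sites.SmallAffineZariski

/-!
# Existence of relative `Proj`
-/

set_option autoImplicit false
set_option maxHeartbeats 1600000
universe u
open CategoryTheory CategoryTheory.Limits AlgebraicGeometry TopologicalSpace Opposite
open scoped HomogeneousIdeal

set_option backward.isDefEq.respectTransparency false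

namespace Groth.Agent.RelProjBasic

variable {S : Scheme.{u}} (𝒮 : RelProj.QCGrAlg S)

abbrev resAff {U V : S.AffineZariskiSite} (h : U ≤ V) : 𝒮.deg V.1 V.2 →+*ᵍ 𝒮.deg U.1 U.2 :=
  𝒮.res V.2 U.2 (Scheme.AffineZariskiSite.toOpens_mono h)

theorem resAff_irr {U V : S.AffineZariskiSite} (h : U ≤ V) :
    (𝒮.deg U.1 U.2)₊ ≤ ((𝒮.deg V.1 V.2)₊).map (resAff 𝒮 h) := by
  obtain ⟨U, hU⟩ := U
  obtain ⟨r, hr⟩ := h
  obtain rfl : S.basicOpen r = U := hr
  exact 𝒮.irrelevant_le_map V.1 V.2 r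

/-- The structure morphism of a piece. -/
noncomputable def piece (U : S.AffineZariskiSite) : Proj (𝒮.deg U.1 U.2) ⟶ U.1.toScheme :=
  Proj.toSpecZero (𝒮.deg U.1 U.2) ≫ Spec.map (𝒮.strZero U.1 U.2) ≫ U.2.isoSpec.inv

theorem piece_ι (U : S.AffineZariskiSite) :
    piece 𝒮 U ≫ U.1.ι = Proj.toSpecZero (𝒮.deg U.1 U.2) ≫ Spec.map (𝒮.strZero U.1 U.2) ≫ U.2.fromSpec := by
  simp [piece, IsAffineOpen.isoSpec_inv_ι]

theorem map_piece {U V : S.AffineZariskiSite} (h : U ≤ V) :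
    Proj.map (resAff 𝒮 h) (resAff_irr 𝒮 h) ≫ piece 𝒮 V =
      piece 𝒮 U ≫ S.homOfLE (Scheme.AffineZariskiSite.toOpens_mono h) := by
  rw [← cancel_mono V.1.ι, Category.assoc, Category.assoc, piece_ι, S.homOfLE_ι, piece_ι,
    map_toSpecZero_assoc, ← Spec.map_comp_assoc,
    ← IsAffineOpen.map_fromSpec V.2 U.2 (homOfLE (Scheme.AffineZariskiSite.toOpens_mono h)).op, ← Spec.map_comp_assoc]
  congr 2
  congr 1
  ext r
  exact (ConcreteCategory.congr_hom
    (𝒮.str.naturality (homOfLE (Scheme.AffineZariskiSite.toOpens_mono h)).op) r).symm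

theorem isPullback_piece {U V : S.AffineZariskiSite} (h : U ≤ V) :
    IsPullback (Proj.map (resAff 𝒮 h) (resAff_irr 𝒮 h)) (piece 𝒮 U) (piece 𝒮 V)
      (S.homOfLE (Scheme.AffineZariskiSite.toOpens_mono h)) := by
  classical
  obtain ⟨U, hU⟩ := U
  obtain ⟨r, hr⟩ := h
  obtain rfl : S.basicOpen r = U := hr
  let ρ := resAff 𝒮 (U := ⟨_, hU⟩) (V := V) ⟨r, rfl⟩
  let c : 𝒮.deg V.1 V.2 0 := (𝒮.strZero V.1 V.2).hom r
  have hu : IsUnit (zeroHom ρ c) := by
    have e : zeroHom ρ c = (𝒮.strZero (S.basicOpen r) hU).hom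
        ((S.presheaf.map (homOfLE (S.basicOpen_le r)).op).hom r) :=
      Subtype.ext (ConcreteCategory.congr_hom (𝒮.str.naturality (homOfLE (S.basicOpen_le r)).op) r).symm
    rw [e]
    exact (RingedSpace.isUnit_res_basicOpen _ r).map _
  let _ := (𝒮.presheaf.map (homOfLE (S.basicOpen_le r)).op).hom.toAlgebra
  have hloc : IsLocalization.Away ((𝒮.str.app (op V.1)).hom r) (𝒮.presheaf.obj (op (S.basicOpen r))) :=
    𝒮.isQC V.1 V.2 r
  have hsurj : ∀ b, ∃ (k : ℕ) (a : 𝒮.presheaf.obj (op V.1)), b * ρ c ^ k = ρ a := fun b => by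
    obtain ⟨k, a, ha⟩ := IsLocalization.Away.surj (x := (𝒮.str.app (op V.1)).hom r) b
    exact ⟨k, a, ha⟩
  have hker : ∀ a, ρ a = 0 → ∃ k : ℕ, (c : 𝒮.presheaf.obj (op V.1)) ^ k * a = 0 := fun a ha => by
    have h0 : algebraMap (𝒮.presheaf.obj (op V.1)) (𝒮.presheaf.obj (op (S.basicOpen r))) a = algebraMap (𝒮.presheaf.obj (op V.1)) (𝒮.presheaf.obj (op (S.basicOpen r))) 0 := by
      rw [map_zero]; exact ha
    obtain ⟨⟨_, k, rfl⟩, hk⟩ := (IsLocalization.eq_iff_exists (Submonoid.powers ((𝒮.str.app (op V.1)).hom r)) _).mp h0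
    exact ⟨k, by rw [mul_zero] at hk; exact hk⟩
  have := isOpenImmersion_map ρ c hu hsurj hker (resAff_irr 𝒮 _)
  refine (IsOpenImmersion.isPullback _ _ _ _ (map_piece 𝒮 _) ?_).flip
  refine Opens.ext (Set.ext fun x => ?_)
  refine Iff.trans ?_ (Set.ext_iff.mp (range_map ρ c hu hsurj hker (resAff_irr 𝒮 _)) x).symm
  rw [Scheme.opensRange_homOfLE]
  show (V.1.ι (piece 𝒮 V x)) ∈ S.basicOpen r ↔ _
  rw [← Scheme.Hom.comp_apply, piece_ι]
  show V.2.fromSpec (Spec.map (𝒮.strZero V.1 V.2) (Proj.toSpecZero (𝒮.deg V.1 V.2) x)) ∈ S.basicOpen r ↔ _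
  refine (SetLike.ext_iff.mp (V.2.fromSpec_preimage_basicOpen r) _).trans ?_
  rfl

/-- The gluing datum of the relative `Proj`. -/
noncomputable def projGluing : (Scheme.AffineZariskiSite.directedCover S).RelativeGluingData where
  functor :=
    { obj := fun U => Proj (𝒮.deg U.1 U.2)
      map := fun {U V} f => Proj.map (resAff 𝒮 f.le) (resAff_irr 𝒮 f.le)
      map_id := fun U => by
        refine (map_congr' ?_ _ (by simp)).trans Proj.map_id
        refine GradedRingHom.ext fun x => ?_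
        show (𝒮.presheaf.map (homOfLE le_rfl).op).hom x = x
        rw [show (homOfLE (le_refl U.1)).op = 𝟙 (op U.1) from rfl, CategoryTheory.Functor.map_id]
        rfl
      map_comp := fun {U V W} f g => by
        rw [← Proj.map_comp]
        refine map_congr' ?_ _ _
        refine GradedRingHom.ext fun x => ?_
        show (𝒮.presheaf.map (homOfLE _).op).hom x =
          (𝒮.presheaf.map (homOfLE _).op).hom ((𝒮.presheaf.map (homOfLE _).op).hom x)
        rw [← CommRingCat.comp_apply, ← Functor.map_comp]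
        rfl }
  natTrans :=
    { app := fun U => piece 𝒮 U
      naturality := fun U V f => map_piece 𝒮 f.le }
  equifibered := fun U V f => isPullback_piece 𝒮 f.le

theorem exists_isRelProj :
    ∃ (P : Scheme.{u}) (p : P ⟶ S)
      (chart : ∀ (U : S.Opens) (hU : IsAffineOpen U), (((p ⁻¹ᵁ U : P.Opens) : Scheme.{u}) ≅ Proj (𝒮.deg U hU))),
      RelProj.IsRelProj 𝒮 p chart := by
  let d := projGluing 𝒮
  have : (d.functor ⋙ Scheme.forget).IsLocallyDirected :=
    Scheme.Cover.RelativeGluingData.instIsLocallyDirectedI₀CompFunctorForgetOfIsThin ..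
  have hrange : ∀ (U : S.Opens) (hU : IsAffineOpen U), Set.range (d.toBase ⁻¹ᵁ U).ι =
      Set.range (d.cover.f (⟨U, hU⟩ : S.AffineZariskiSite)) := fun U hU => by
    rw [Scheme.Opens.range_ι]
    have := d.toBase_preimage_eq_opensRange_ι ⟨U, hU⟩
    rw [show ((Scheme.AffineZariskiSite.directedCover S).f ⟨U, hU⟩).opensRange = U from U.opensRange_ι] at this
    exact congrArg (fun O : d.glued.Opens => (O : Set d.glued)) this
  let chart : ∀ (U : S.Opens) (hU : IsAffineOpen U),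
      (d.toBase ⁻¹ᵁ U : d.glued.Opens).toScheme ≅ Proj (𝒮.deg U hU) := fun U hU =>
    IsOpenImmersion.isoOfRangeEq (d.toBase ⁻¹ᵁ U).ι (d.cover.f (⟨U, hU⟩ : S.AffineZariskiSite)) (hrange U hU)
  have hfac : ∀ (U : S.Opens) (hU : IsAffineOpen U),
      (chart U hU).hom ≫ d.cover.f (⟨U, hU⟩ : S.AffineZariskiSite) = (d.toBase ⁻¹ᵁ U).ι := fun U hU =>
    IsOpenImmersion.isoOfRangeEq_hom_fac _ _ _
  refine ⟨d.glued, d.toBase, chart, fun U hU => ?_, fun U hU r => ?_⟩
  · rw [← piece_ι 𝒮 ⟨U, hU⟩, ← hfac U hU, Category.assoc]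
    congr 1
    exact (d.ι_toBase ⟨U, hU⟩).symm
  · let W : S.AffineZariskiSite := ⟨S.basicOpen r, hU.basicOpen r⟩
    have hle : W ≤ (⟨U, hU⟩ : S.AffineZariskiSite) := ⟨r, rfl⟩
    have hw : Proj.map (resAff 𝒮 hle) (resAff_irr 𝒮 hle) ≫ d.cover.f (⟨U, hU⟩ : S.AffineZariskiSite) = d.cover.f W :=
      colimit.w d.functor (homOfLE hle)
    rw [← cancel_mono (d.cover.f (⟨U, hU⟩ : S.AffineZariskiSite)), Category.assoc, hfac, Scheme.homOfLE_ι, Category.assoc]
    refine Eq.trans ?_ (congrArg (fun q => (chart (S.basicOpen r) (hU.basicOpen r)).hom ≫ q) hw).symm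
    exact (hfac _ _).symm

end Groth.Agent.RelProjBasic
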