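import Groth.Agent.RelProjBasic.QMap
import Mathlib.AlgebraicGeometry.Morphisms.FiniteType
import Mathlib.AlgebraicGeometry.ProjectiveSpectrum.Proper

/-!
# `Proj` generated in degree one by a finite module is of finite type
-/

set_option autoImplicit false
set_option maxHeartbeats 800000
universe u
open CategoryTheory CategoryTheory.Limits AlgebraicGeometry TopologicalSpace Opposite HomogeneousLocalization

set_option backward.isDefEq.respectTransparency false

namespace Groth.Agent.RelProjBasic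

section ring

variable {σ A R : Type u} [CommRing A] [CommRing R] [SetLike σ A] [AddSubgroupClass σ A] {𝒜 : ℕ → σ} [GradedRing 𝒜]
  (ψ : R →+* 𝒜 0) (hgen : Subring.closure ((𝒜 0 : Set A) ∪ (𝒜 1 : Set A)) = ⊤)
  (T : Finset A) (hT : ∀ t ∈ T, t ∈ 𝒜 1) (h1 : ∀ x ∈ 𝒜 1, ∃ c : A → R, x = ∑ t ∈ T, (ψ (c t) : A) * t)

include hgen hT h1 in
theorem finiteType_away {s : A} (hs : s ∈ 𝒜 1) :
    ((fromZeroRingHom 𝒜 (Submonoid.powers s)).comp ψ).FiniteType := by
  classical
  let F := (fromZeroRingHom 𝒜 (Submonoid.powers s)).comp ψ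
  let _ := F.toAlgebra
  let G : Set (Away 𝒜 s) := Set.range fun t : T => Away.mk 𝒜 hs 1 t.1 (by simpa using hT t.1 t.2)
  have hG : G.Finite := Set.finite_range _
  let Q : Subalgebra R (Away 𝒜 s) := Algebra.adjoin R G
  have hF : ∀ c, F c ∈ Q := fun c => Q.algebraMap_mem c
  have hdeg1 : ∀ (x : A) (hx : x ∈ 𝒜 (1 • 1)), Away.mk 𝒜 hs 1 x hx ∈ Q := by
    intro x hx
    obtain ⟨c, hc⟩ := h1 x (by simpa using hx)
    have : Away.mk 𝒜 hs 1 x hx = ∑ t : T, F (c t) * Away.mk 𝒜 hs 1 t.1 (by simpa using hT t.1 t.2) := by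
      apply HomogeneousLocalization.val_injective
      rw [Away.val_mk, ← HomogeneousLocalization.algebraMap_apply, map_sum]
      simp only [HomogeneousLocalization.algebraMap_apply, HomogeneousLocalization.val_mul, Away.val_mk]
      rw [hc, ← Finset.sum_coe_sort T, Localization.mk_sum]
      refine Finset.sum_congr rfl fun t _ => ?_
      show _ = Localization.mk _ _ * _
      refine Eq.trans ?_ (Localization.mk_mul _ _ _ _).symm
      exact congrArg (Localization.mk _) (Subtype.ext (one_mul _).symm)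
    rw [this]
    exact Q.sum_mem fun t _ => Q.mul_mem (hF _) (Algebra.subset_adjoin ⟨t, rfl⟩)
  have hmon : ∀ m ∈ Submonoid.closure ((𝒜 0 : Set A) ∪ (𝒜 1 : Set A)),
      ∃ n, ∃ hm : m ∈ 𝒜 (n • 1), Away.mk 𝒜 hs n m hm ∈ Q := by
    intro m hm
    induction hm using Submonoid.closure_induction with
    | mem x hx =>
      rcases hx with hx | hx
      · refine ⟨0, by simpa using hx, ?_⟩
        have hxs : x * s ∈ 𝒜 (1 • 1) := by simpa using SetLike.mul_mem_graded (A := 𝒜) hx hs
        convert hdeg1 (x * s) hxs using 1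
        apply HomogeneousLocalization.val_injective
        simp only [Away.val_mk, Localization.mk_eq_mk_iff, Localization.r_iff_exists]
        exact ⟨1, by simp; ring⟩
      · exact ⟨1, by simpa using hx, hdeg1 x (by simpa using hx)⟩
    | one =>
      refine ⟨0, by simpa using SetLike.one_mem_graded 𝒜, ?_⟩
      convert Q.one_mem using 1
      apply HomogeneousLocalization.val_injective
      simp
    | mul x y _ _ hx hy =>
      obtain ⟨n, hn, hnQ⟩ := hx
      obtain ⟨k, hk, hkQ⟩ := hy
      refine ⟨n + k, by rw [add_nsmul]; exact SetLike.mul_mem_graded hn hk, ?_⟩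
      convert Q.mul_mem hnQ hkQ using 1
      apply HomogeneousLocalization.val_injective
      simp [Localization.mk_mul, pow_add]
  have hall : ∀ (a : A) (n : ℕ) (hn : (DirectSum.decompose 𝒜 a (n • 1) : A) ∈ 𝒜 (n • 1)),
      Away.mk 𝒜 hs n (DirectSum.decompose 𝒜 a (n • 1) : A) hn ∈ Q := by
    intro a
    have ha : a ∈ AddSubgroup.closure (Submonoid.closure ((𝒜 0 : Set A) ∪ (𝒜 1 : Set A)) : Set A) :=
      Subring.mem_closure_iff.mp (hgen ▸ Subring.mem_top a)
    induction ha using AddSubgroup.closure_induction with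
    | mem m hm =>
      intro n hn
      obtain ⟨k, hk, hkQ⟩ := hmon m hm
      by_cases e : k = n
      · subst e
        simpa only [DirectSum.decompose_of_mem_same 𝒜 hk] using hkQ
      · have h0 : (DirectSum.decompose 𝒜 m (n • 1) : A) = 0 :=
          DirectSum.decompose_of_mem_ne 𝒜 hk (by simpa using e)
        convert Q.zero_mem using 1
        apply HomogeneousLocalization.val_injective
        rw [Away.val_mk, h0, Localization.mk_zero, HomogeneousLocalization.val_zero]
    | zero =>
      intro n hn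
      convert Q.zero_mem using 1
      apply HomogeneousLocalization.val_injective
      simp [Localization.mk_zero]
    | add x y _ _ hx hy =>
      intro n hn
      convert Q.add_mem (hx n (SetLike.coe_mem _)) (hy n (SetLike.coe_mem _)) using 1
      apply HomogeneousLocalization.val_injective
      simp [Localization.add_mk_self]
    | neg x _ hx =>
      intro n hn
      convert Q.neg_mem (hx n (SetLike.coe_mem _)) using 1
      apply HomogeneousLocalization.val_injective
      simp only [Away.val_mk, HomogeneousLocalization.val_neg, Localization.neg_mk]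
      congr 1
      rw [DirectSum.decompose_neg]
      rfl
  refine ⟨⟨hG.toFinset, eq_top_iff.mpr fun z _ => ?_⟩⟩
  rw [Set.Finite.coe_toFinset]
  obtain ⟨n, a, ha, rfl⟩ := Away.mk_surjective 𝒜 hs z
  have := hall a n (SetLike.coe_mem _)
  simp only [DirectSum.decompose_of_mem_same 𝒜 ha] at this
  exact this

include hgen hT h1 in
theorem iSup_basicOpen_T : ⨆ t : T, Proj.basicOpen 𝒜 (t : A) = ⊤ := by
  classical
  refine Proj.iSup_basicOpen_eq_top 𝒜 _ ((HomogeneousIdeal.toIdeal_irrelevant_le _).mpr fun n hn x hx => ?_)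
  show x ∈ Ideal.span (Set.range fun t : T => (t : A))
  let I := Ideal.span (Set.range fun t : T => (t : A))
  have h1I : ∀ y ∈ 𝒜 1, y ∈ I := fun y hy => by
    obtain ⟨c, rfl⟩ := h1 y hy
    exact I.sum_mem fun t ht => I.mul_mem_left _ (Ideal.subset_span ⟨⟨t, ht⟩, rfl⟩)
  have hmon : ∀ m ∈ Submonoid.closure ((𝒜 0 : Set A) ∪ (𝒜 1 : Set A)), m ∈ 𝒜 0 ∨ m ∈ I := by
    intro m hm
    induction hm using Submonoid.closure_induction with
    | mem y hy => exact hy.imp id (h1I y)
    | one => exact .inl (SetLike.one_mem_graded 𝒜)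
    | mul y z _ _ hy hz =>
      rcases hy with hy | hy
      · rcases hz with hz | hz
        · exact .inl (by simpa using SetLike.mul_mem_graded (A := 𝒜) hy hz)
        · exact .inr (I.mul_mem_left _ hz)
      · exact .inr (I.mul_mem_right _ hy)
  have hall : ∀ a : A, ∃ b ∈ 𝒜 0, a - b ∈ I := by
    intro a
    have ha : a ∈ AddSubgroup.closure (Submonoid.closure ((𝒜 0 : Set A) ∪ (𝒜 1 : Set A)) : Set A) :=
      Subring.mem_closure_iff.mp (hgen ▸ Subring.mem_top a)
    induction ha using AddSubgroup.closure_induction with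
    | mem m hm =>
      rcases hmon m hm with h | h
      · exact ⟨m, h, by simp⟩
      · exact ⟨0, zero_mem _, by simpa using h⟩
    | zero => exact ⟨0, zero_mem _, by simp⟩
    | add y z _ _ hy hz =>
      obtain ⟨b, hb, hb'⟩ := hy; obtain ⟨c, hc, hc'⟩ := hz
      exact ⟨b + c, add_mem hb hc, by convert I.add_mem hb' hc' using 1; ring⟩
    | neg y _ hy =>
      obtain ⟨b, hb, hb'⟩ := hy
      exact ⟨-b, neg_mem hb, by convert I.neg_mem hb' using 1; ring⟩
  obtain ⟨b, hb, hab⟩ := hall x
  have hI : I.IsHomogeneous 𝒜 := Ideal.homogeneous_span 𝒜 _ (by rintro _ ⟨t, rfl⟩; exact ⟨1, hT t.1 t.2⟩)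
  have := hI n hab
  rw [DirectSum.decompose_sub] at this
  simp only [DirectSum.sub_apply, AddSubgroupClass.coe_sub, DirectSum.decompose_of_mem_same 𝒜 hx,
    DirectSum.decompose_of_mem_ne 𝒜 hb hn.ne, sub_zero] at this
  exact this

include hgen hT h1 in
theorem locallyOfFiniteType_and_compactSpace :
    LocallyOfFiniteType (Proj.toSpecZero 𝒜 ≫ Spec.map (CommRingCat.ofHom ψ)) ∧ CompactSpace (Proj 𝒜) := by
  let 𝒰 : (Proj 𝒜).OpenCover :=
    { I₀ := T
      X := fun t => Spec (CommRingCat.of (Away 𝒜 (t : A)))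
      f := fun t => Proj.awayι 𝒜 (t : A) (hT t.1 t.2) one_pos
      mem₀ := by
        rw [Scheme.presieve₀_mem_precoverage_iff]
        refine ⟨fun x => ?_, inferInstance⟩
        obtain ⟨t, ht⟩ := Opens.mem_iSup.mp ((iSup_basicOpen_T ψ hgen T hT h1).ge (Opens.mem_top x))
        exact ⟨t, (Proj.opensRange_awayι 𝒜 _ (hT t.1 t.2) one_pos).ge ht⟩ }
  have : Finite 𝒰.I₀ := inferInstanceAs (Finite T)
  have : ∀ i, CompactSpace (𝒰.X i) := fun i => inferInstanceAs (CompactSpace (Spec (CommRingCat.of (Away 𝒜 (i.1 : A)))))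
  refine ⟨IsZariskiLocalAtSource.of_openCover 𝒰 fun t => ?_, 𝒰.compactSpace⟩
  show LocallyOfFiniteType (Proj.awayι 𝒜 (t : A) (hT t.1 t.2) one_pos ≫ _)
  rw [Proj.awayι_toSpecZero_assoc, ← Spec.map_comp, HasRingHomProperty.Spec_iff (P := @LocallyOfFiniteType)]
  exact finiteType_away ψ hgen T hT h1 (hT t.1 t.2)

end ring

theorem finiteType_of_isRelProj {Y P : Scheme.{u}} {𝒮 : RelProj.QCGrAlg Y} (hgen : 𝒮.IsGenDegOne) (hft : 𝒮.IsFTDeg 1)
    {p : P ⟶ Y} {chart : ∀ (U : Y.Opens) (hU : IsAffineOpen U), (((p ⁻¹ᵁ U : P.Opens) : Scheme.{u}) ≅ Proj (𝒮.deg U hU))}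
    (hP : RelProj.IsRelProj 𝒮 p chart) : LocallyOfFiniteType p ∧ QuasiCompact p := by
  have h : ∀ (U : Y.Opens) (hU : IsAffineOpen U),
      LocallyOfFiniteType (Proj.toSpecZero (𝒮.deg U hU) ≫ Spec.map (𝒮.strZero U hU)) ∧ CompactSpace (Proj (𝒮.deg U hU)) := by
    intro U hU
    obtain ⟨T, hT, h1⟩ := hft U hU
    exact locallyOfFiniteType_and_compactSpace (𝒮.strZero U hU).hom (hgen U hU) T hT h1
  refine ⟨?_, ?_⟩
  · refine IsZariskiLocalAtTarget.of_openCover (Y.openCoverOfIsOpenCover _ (IsOpenCover.mk (iSup_affineOpens_eq_top Y))) fun U => ?_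
    obtain ⟨U, hU⟩ := U
    have hsq : RelProj.emb p chart U hU ≫ p = (Proj.toSpecZero (𝒮.deg U hU) ≫ Spec.map (𝒮.strZero U hU) ≫ hU.isoSpec.inv) ≫ U.ι := by
      rw [emb_comp hP]; simp [IsAffineOpen.isoSpec_inv_ι]
    have hpre : p ⁻¹ᵁ U.ι.opensRange = (RelProj.emb p chart U hU).opensRange := by
      rw [Scheme.Opens.opensRange_ι]
      refine Opens.ext (Set.ext fun x => ⟨fun hx => ?_, ?_⟩)
      · obtain ⟨y, hy⟩ := exists_emb_eq (chart := chart) U hU x hx
        exact ⟨y, hy⟩
      · rintro ⟨y, rfl⟩; exact emb_mem U hU y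
    have hpb : IsPullback (RelProj.emb p chart U hU) (Proj.toSpecZero (𝒮.deg U hU) ≫ Spec.map (𝒮.strZero U hU) ≫ hU.isoSpec.inv) p U.ι :=
      (IsOpenImmersion.isPullback _ _ _ _ hsq hpre).flip
    show LocallyOfFiniteType (pullback.snd p U.ι)
    rw [← MorphismProperty.cancel_left_of_respectsIso @LocallyOfFiniteType hpb.isoPullback.hom,
      IsPullback.isoPullback_hom_snd, ← Category.assoc, MorphismProperty.cancel_right_of_respectsIso @LocallyOfFiniteType]
    exact (h U hU).1
  · rw [quasiCompact_iff_forall_isAffineOpen]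
    intro U hU
    have := (h U hU).2
    exact isCompact_iff_compactSpace.mpr ((chart U hU).hom.homeomorph.symm.compactSpace)

end Groth.Agent.RelProjBasic
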