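import Groth.Prelude.Def_RelProj
import Groth.Agent.RelProjBasic.ProjMap

/-!
# Morphisms of relative `Proj`s are determined chartwise
-/

set_option autoImplicit false
universe u
open CategoryTheory CategoryTheory.Limits AlgebraicGeometry Opposite TopologicalSpace
open scoped HomogeneousIdeal

namespace Groth.Agent.RelProjBasic

variable {Y PA PB : Scheme.{u}} {𝒜 ℬ : RelProj.QCGrAlg Y}
  {φ : 𝒜.toQCAlg ⟶ ℬ.toQCAlg} {hφ : RelProj.IsGradedHom φ}
  {hirr : ∀ (U : Y.Opens) (hU : IsAffineOpen U),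
    (ℬ.deg U hU)₊ ≤ ((𝒜.deg U hU)₊).map (RelProj.gradedHomAt φ hφ U hU)}
  {pA : PA ⟶ Y} {pB : PB ⟶ Y}
  {chartA : ∀ (U : Y.Opens) (hU : IsAffineOpen U), (((pA ⁻¹ᵁ U : PA.Opens) : Scheme.{u}) ≅ Proj (𝒜.deg U hU))}
  {chartB : ∀ (U : Y.Opens) (hU : IsAffineOpen U), (((pB ⁻¹ᵁ U : PB.Opens) : Scheme.{u}) ≅ Proj (ℬ.deg U hU))}
  (hA : RelProj.IsRelProj 𝒜 pA chartA) (hB : RelProj.IsRelProj ℬ pB chartB)
  {h : PB ⟶ PA} (hh : RelProj.IsRelProjMap φ hφ hirr chartA chartB h)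

theorem isOpenCover_preimage (p : PB ⟶ Y) : IsOpenCover fun U : Y.affineOpens => p ⁻¹ᵁ (U : Y.Opens) :=
  (IsOpenCover.mk (iSup_affineOpens_eq_top Y)).comap p.base.hom

include hA hB hh in
theorem comp_eq : h ≫ pA = pB := by
  refine (PB.openCoverOfIsOpenCover _ (isOpenCover_preimage pB)).hom_ext _ _ fun U => ?_
  obtain ⟨U, hU⟩ := U
  show (pB ⁻¹ᵁ U).ι ≫ h ≫ pA = (pB ⁻¹ᵁ U).ι ≫ pB
  rw [← hB.chart_over U hU, ← Category.assoc, hh U hU]
  simp only [Category.assoc]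
  congr 1
  rw [← hA.chart_over U hU, Iso.inv_hom_id_assoc, map_toSpecZero_assoc, ← Spec.map_comp_assoc]
  congr 2
  congr 1
  ext r
  exact ConcreteCategory.congr_hom (NatTrans.congr_app φ.comm (op U)) r

include hA hB hh in
/-- A property local at the target holds for `h` if it holds for every `Proj.map` on charts. -/
theorem of_charts {P : MorphismProperty Scheme.{u}} [IsZariskiLocalAtTarget P]
    (hP : ∀ (U : Y.Opens) (hU : IsAffineOpen U), P (Proj.map (RelProj.gradedHomAt φ hφ U hU) (hirr U hU))) : P h := by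
  refine IsZariskiLocalAtTarget.of_openCover (PA.openCoverOfIsOpenCover _ (isOpenCover_preimage pA)) fun U => ?_
  obtain ⟨U, hU⟩ := U
  have hpre : h ⁻¹ᵁ (pA ⁻¹ᵁ U : PA.Opens).ι.opensRange = (pB ⁻¹ᵁ U : PB.Opens).ι.opensRange := by
    simp only [Scheme.Opens.opensRange_ι, ← Scheme.Hom.comp_preimage, comp_eq hA hB hh]
  have hpb : IsPullback (pB ⁻¹ᵁ U).ι ((chartB U hU).hom ≫ Proj.map (RelProj.gradedHomAt φ hφ U hU) (hirr U hU) ≫ (chartA U hU).inv)
      h (pA ⁻¹ᵁ U).ι :=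
    (IsOpenImmersion.isPullback _ _ _ _ (by simpa only [Category.assoc] using hh U hU) hpre).flip
  show P (pullback.snd h (pA ⁻¹ᵁ U).ι)
  rw [← MorphismProperty.cancel_left_of_respectsIso P hpb.isoPullback.hom, IsPullback.isoPullback_hom_snd,
    MorphismProperty.cancel_left_of_respectsIso P, MorphismProperty.cancel_right_of_respectsIso P]
  exact hP U hU

end Groth.Agent.RelProjBasic
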