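import Groth.Agent.RelProjBasic.FiniteType
import Mathlib.AlgebraicGeometry.Morphisms.Proper
import Mathlib.AlgebraicGeometry.Morphisms.Integral
import Mathlib.LinearAlgebra.Matrix.Charpoly.LinearMap

/-!
# A projective morphism (relative `Proj`, generated in degree one by a finite module) is proper
-/

set_option autoImplicit false
set_option maxHeartbeats 800000
universe u
open CategoryTheory CategoryTheory.Limits AlgebraicGeometry TopologicalSpace Opposite HomogeneousLocalization

set_option backward.isDefEq.respectTransparency false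

namespace Groth.Agent.RelProjBasic

section ring

variable {σ A R : Type u} [CommRing A] [CommRing R] [SetLike σ A] [AddSubgroupClass σ A] {𝒜 : ℕ → σ} [GradedRing 𝒜]
  (ψ : R →+* 𝒜 0) (hgen : Subring.closure ((𝒜 0 : Set A) ∪ (𝒜 1 : Set A)) = ⊤)
  (T : Finset A) (hT : ∀ t ∈ T, t ∈ 𝒜 1) (h1 : ∀ x ∈ 𝒜 1, ∃ c : A → R, x = ∑ t ∈ T, (ψ (c t) : A) * t)

/-- The degree-zero elements killing the degree-one part. -/
def annDegOne (𝒜 : ℕ → σ) [GradedRing 𝒜] : Ideal (𝒜 0) where
  carrier := {x | ∀ a ∈ 𝒜 1, (x : A) * a = 0}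
  add_mem' := fun {x y} hx hy a ha => by
    show ((x : A) + (y : A)) * a = 0
    rw [add_mul, hx a ha, hy a ha, add_zero]
  zero_mem' := fun a _ => by
    show (0 : A) * a = 0
    rw [zero_mul]
  smul_mem' := fun c x hx a ha => by
    show (c : A) * (x : A) * a = 0
    rw [mul_assoc, hx a ha, mul_zero]

include hgen h1 in
theorem finiteType_degZero : Algebra.FiniteType (𝒜 0) A := by
  classical
  refine ⟨⟨T, eq_top_iff.mpr fun a _ => ?_⟩⟩
  have ha : a ∈ Subring.closure ((𝒜 0 : Set A) ∪ (𝒜 1 : Set A)) := hgen ▸ Subring.mem_top a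
  refine Subring.closure_le.mpr (?_ : _ ⊆ ((Algebra.adjoin (𝒜 0) (T : Set A)).toSubring : Set A)) ha
  rintro x (hx | hx)
  · exact (Algebra.adjoin (𝒜 0) (T : Set A)).algebraMap_mem ⟨x, hx⟩
  · obtain ⟨c, rfl⟩ := h1 x hx
    exact (Algebra.adjoin (𝒜 0) (T : Set A)).sum_mem fun t ht =>
      (Algebra.adjoin (𝒜 0) (T : Set A)).mul_mem ((Algebra.adjoin (𝒜 0) (T : Set A)).algebraMap_mem (ψ (c t)))
        (Algebra.subset_adjoin ht)

include hT h1 in
theorem isIntegral_quot_annDegOne : ((Ideal.Quotient.mk (annDegOne 𝒜)).comp ψ).IsIntegral := by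
  classical
  intro z
  obtain ⟨x, rfl⟩ := Ideal.Quotient.mk_surjective z
  let incl : 𝒜 0 →+* A := algebraMap (𝒜 0) A
  let _ : Algebra R A := (incl.comp ψ).toAlgebra
  let M : Submodule R A := Submodule.span R (T : Set A)
  have hM : ∀ a, a ∈ 𝒜 1 → a ∈ M := fun a ha => by
    obtain ⟨c, rfl⟩ := h1 a ha
    exact M.sum_mem fun t ht => by
      have := M.smul_mem (c t) (Submodule.subset_span (Finset.mem_coe.mpr ht))
      exact this
  have hxM : ∀ m ∈ M, LinearMap.mulLeft R (x : A) m ∈ M := fun m hm => by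
    induction hm using Submodule.span_induction with
    | mem t ht =>
      exact hM _ (by simpa using SetLike.mul_mem_graded (A := 𝒜) x.2 (hT t ht))
    | zero => simp
    | add a b _ _ ha hb => rw [map_add]; exact M.add_mem ha hb
    | smul r a _ ha => rw [map_smul]; exact M.smul_mem r ha
  have : Module.Finite R M := Module.Finite.span_of_finite R T.finite_toSet
  let f : Module.End R M := (LinearMap.mulLeft R (x : A)).restrict hxM
  obtain ⟨p, hp, hp0⟩ := LinearMap.exists_monic_and_aeval_eq_zero R f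
  refine ⟨p, hp, ?_⟩
  have key : ∀ (q : Polynomial R) (m : M),
      ((Polynomial.aeval f q m : M) : A) = Polynomial.aeval (x : A) q * (m : A) := by
    intro q m
    induction q using Polynomial.induction_on generalizing m with
    | C r =>
      simp [Algebra.smul_def]
    | add a b ha hb =>
      simp [map_add, add_mul, ha, hb]
    | monomial n r h =>
      simp only [pow_succ, ← mul_assoc]
      rw [map_mul, Polynomial.aeval_X, Module.End.mul_apply, h, map_mul _ (Polynomial.C r * Polynomial.X ^ n) Polynomial.X,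
        Polynomial.aeval_X, mul_assoc]
      rfl
  rw [← Polynomial.hom_eval₂, Ideal.Quotient.eq_zero_iff_mem]
  intro a ha
  have h := key p ⟨a, hM a ha⟩
  rw [hp0] at h
  have e : ((Polynomial.eval₂ ψ x p : 𝒜 0) : A) = Polynomial.aeval (x : A) p := by
    show incl (Polynomial.eval₂ ψ x p) = _
    rw [Polynomial.hom_eval₂]
    rfl
  rw [e]
  exact h.symm

include hgen hT h1 in
theorem universallyClosed_toSpecZero :
    UniversallyClosed (Proj.toSpecZero 𝒜 ≫ Spec.map (CommRingCat.ofHom ψ)) := by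
  classical
  let I := annDegOne 𝒜
  let mkI : CommRingCat.of (𝒜 0) ⟶ CommRingCat.of (𝒜 0 ⧸ I) := CommRingCat.ofHom (Ideal.Quotient.mk I)
  let 𝒰 : (Proj 𝒜).OpenCover :=
    { I₀ := T
      X := fun t => Spec (CommRingCat.of (Away 𝒜 (t : A)))
      f := fun t => Proj.awayι 𝒜 (t : A) (hT t.1 t.2) one_pos
      mem₀ := by
        rw [Scheme.presieve₀_mem_precoverage_iff]
        refine ⟨fun x => ?_, inferInstance⟩
        obtain ⟨t, ht⟩ := Opens.mem_iSup.mp ((iSup_basicOpen_T ψ hgen T hT h1).ge (Opens.mem_top x))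
        exact ⟨t, (Proj.opensRange_awayι 𝒜 _ (hT t.1 t.2) one_pos).ge ht⟩ }
  have hker : ∀ (t : T) (a : 𝒜 0), a ∈ I → fromZeroRingHom 𝒜 (Submonoid.powers (t : A)) a = 0 := by
    intro t a ha
    apply HomogeneousLocalization.val_injective
    rw [HomogeneousLocalization.val_zero]
    show Localization.mk (a : A) 1 = 0
    rw [← Localization.mk_zero 1, Localization.mk_eq_mk_iff, Localization.r_iff_exists]
    exact ⟨⟨(t : A), 1, pow_one _⟩, by simp [mul_comm (t : A), ha t.1 (hT t.1 t.2)]⟩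
  let g : ∀ t : T, Spec (CommRingCat.of (Away 𝒜 (t : A))) ⟶ Spec (CommRingCat.of (𝒜 0 ⧸ I)) := fun t =>
    Spec.map (CommRingCat.ofHom (Ideal.Quotient.lift I (fromZeroRingHom 𝒜 (Submonoid.powers (t : A))) (hker t)))
  have : IsClosedImmersion (Spec.map mkI) :=
    IsClosedImmersion.spec_of_surjective mkI Ideal.Quotient.mk_surjective
  have hg : ∀ t : T, g t ≫ Spec.map mkI = 𝒰.f t ≫ Proj.toSpecZero 𝒜 := by
    intro t
    show _ = Proj.awayι 𝒜 (t : A) (hT t.1 t.2) one_pos ≫ Proj.toSpecZero 𝒜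
    rw [Proj.awayι_toSpecZero, ← Spec.map_comp, ← CommRingCat.ofHom_comp, Ideal.Quotient.lift_comp_mk]
  let G : Proj 𝒜 ⟶ Spec (CommRingCat.of (𝒜 0 ⧸ I)) := 𝒰.glueMorphisms g fun t s => by
    rw [← cancel_mono (Spec.map mkI), Category.assoc, Category.assoc, hg, hg, pullback.condition_assoc]
  have hG : G ≫ Spec.map mkI = Proj.toSpecZero 𝒜 := by
    refine 𝒰.hom_ext _ _ fun t => ?_
    rw [← Category.assoc, 𝒰.ι_glueMorphisms]
    exact hg t
  have : Algebra.FiniteType (𝒜 0) A := finiteType_degZero ψ hgen T h1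
  have : UniversallyClosed (G ≫ Spec.map mkI) := hG ▸ inferInstance
  have : UniversallyClosed G := UniversallyClosed.of_comp_of_isSeparated G (Spec.map mkI)
  have hi : IsIntegralHom (Spec.map mkI ≫ Spec.map (CommRingCat.ofHom ψ)) := by
    rw [← Spec.map_comp, IsIntegralHom.SpecMap_iff]
    exact isIntegral_quot_annDegOne ψ T hT h1
  rw [← hG, Category.assoc]
  infer_instance

end ring

section scheme

variable {Y P : Scheme.{u}} {𝒮 : RelProj.QCGrAlg Y} {p : P ⟶ Y}
  {chart : ∀ (U : Y.Opens) (hU : IsAffineOpen U), (((p ⁻¹ᵁ U : P.Opens) : Scheme.{u}) ≅ Proj (𝒮.deg U hU))}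

/-- A property local at the target holds for the structure map of a relative `Proj` if it holds on all charts. -/
theorem of_isRelProj_charts (Q : MorphismProperty Scheme.{u}) [IsZariskiLocalAtTarget Q]
    (hP : RelProj.IsRelProj 𝒮 p chart)
    (h : ∀ (U : Y.Opens) (hU : IsAffineOpen U),
      Q (Proj.toSpecZero (𝒮.deg U hU) ≫ Spec.map (𝒮.strZero U hU))) : Q p := by
  refine IsZariskiLocalAtTarget.of_openCover
    (Y.openCoverOfIsOpenCover _ (IsOpenCover.mk (iSup_affineOpens_eq_top Y))) fun U => ?_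
  obtain ⟨U, hU⟩ := U
  have hsq : RelProj.emb p chart U hU ≫ p =
      (Proj.toSpecZero (𝒮.deg U hU) ≫ Spec.map (𝒮.strZero U hU) ≫ hU.isoSpec.inv) ≫ U.ι := by
    rw [emb_comp hP]; simp [IsAffineOpen.isoSpec_inv_ι]
  have hpre : p ⁻¹ᵁ U.ι.opensRange = (RelProj.emb p chart U hU).opensRange := by
    rw [Scheme.Opens.opensRange_ι]
    refine Opens.ext (Set.ext fun x => ⟨fun hx => ?_, ?_⟩)
    · obtain ⟨y, hy⟩ := exists_emb_eq (chart := chart) U hU x hx
      exact ⟨y, hy⟩
    · rintro ⟨y, rfl⟩; exact emb_mem U hU y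
  have hpb : IsPullback (RelProj.emb p chart U hU)
      (Proj.toSpecZero (𝒮.deg U hU) ≫ Spec.map (𝒮.strZero U hU) ≫ hU.isoSpec.inv) p U.ι :=
    (IsOpenImmersion.isPullback _ _ _ _ hsq hpre).flip
  show Q (pullback.snd p U.ι)
  rw [← MorphismProperty.cancel_left_of_respectsIso Q hpb.isoPullback.hom,
    IsPullback.isoPullback_hom_snd, ← Category.assoc, MorphismProperty.cancel_right_of_respectsIso Q]
  exact h U hU

theorem isProper_of_isRelProj (hgen : 𝒮.IsGenDegOne) (hft : 𝒮.IsFTDeg 1)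
    (hP : RelProj.IsRelProj 𝒮 p chart) : IsProper p := by
  obtain ⟨_, _⟩ := finiteType_of_isRelProj hgen hft hP
  have : UniversallyClosed p := of_isRelProj_charts @UniversallyClosed hP fun U hU => by
    obtain ⟨T, hT, h1⟩ := hft U hU
    exact universallyClosed_toSpecZero (𝒮.strZero U hU).hom (hgen U hU) T hT h1
  have : IsSeparated p := of_isRelProj_charts @IsSeparated hP fun U hU => inferInstance
  exact {}

theorem isProper_of_isProjective {X S : Scheme.{u}} {f : X ⟶ S} (hf : RelProj.IsProjective f) : IsProper f := by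
  obtain ⟨𝒮, P, p, chart, e, hgen, hft, hP, rfl⟩ := hf
  have := isProper_of_isRelProj hgen hft hP
  infer_instance

end scheme

end Groth.Agent.RelProjBasic
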