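import Groth.Prelude.Def_RelProj4
import Groth.Agent.RelProjBasic.Glue
import Groth.Agent.RelProjBasic.Dom

/-!
# The morphism `G(u) ⟶ Proj 𝒮` of a graded morphism of quasi-coherent algebras
-/

set_option autoImplicit false
set_option maxHeartbeats 1600000
universe u
open CategoryTheory CategoryTheory.Limits AlgebraicGeometry TopologicalSpace Opposite HomogeneousLocalization
open scoped HomogeneousIdeal

set_option backward.isDefEq.respectTransparency false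

namespace Groth.Agent.RelProjBasic

/-- Gluing along charts with pointwise overlap witnesses. -/
theorem existsUnique_of_charts' {X T : Scheme.{u}} {ι : Type u} (Y : ι → Scheme.{u}) (c : ∀ i, Y i ⟶ X)
    [∀ i, IsOpenImmersion (c i)] (hcov : ∀ x : X, ∃ i, x ∈ Set.range (c i)) (m : ∀ i, Y i ⟶ T)
    (hstep : ∀ i j (x : X), x ∈ Set.range (c i) → x ∈ Set.range (c j) →
      ∃ k, ∃ (a : Y k ⟶ Y i) (b : Y k ⟶ Y j),
        x ∈ Set.range (c k) ∧ a ≫ c i = c k ∧ b ≫ c j = c k ∧ a ≫ m i = m k ∧ b ≫ m j = m k) :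
    ∃! p : X ⟶ T, ∀ i, c i ≫ p = m i := by
  choose idx hidx using hcov
  let 𝒰 : X.OpenCover :=
    { I₀ := ι
      X := Y
      f := c
      mem₀ := by
        rw [Scheme.presieve₀_mem_precoverage_iff]
        exact ⟨fun x => ⟨idx x, hidx x⟩, inferInstance⟩ }
  have hcomp : ∀ i j : ι, pullback.fst (c i) (c j) ≫ m i = pullback.snd (c i) (c j) ≫ m j := by
    intro i j
    let Z := pullback (c i) (c j)
    let q := pullback.fst (c i) (c j) ≫ c i
    have hq : q = pullback.snd (c i) (c j) ≫ c j := pullback.condition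
    choose k a b hk ha hb hma hmb using fun z : Z => hstep i j (q z)
      ⟨pullback.fst (c i) (c j) z, rfl⟩ ⟨pullback.snd (c i) (c j) z, by rw [hq]; rfl⟩
    have hk' : ∀ z : Z, z ∈ Set.range (pullback.fst q (c (k z))) := fun z => by
      rw [IsOpenImmersion.range_pullbackFst]
      exact hk z
    let 𝒲 : Z.OpenCover :=
      { I₀ := Z
        X := fun z => pullback q (c (k z))
        f := fun z => pullback.fst q (c (k z))
        mem₀ := by
          rw [Scheme.presieve₀_mem_precoverage_iff]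
          exact ⟨fun z => ⟨z, hk' z⟩, inferInstance⟩ }
    refine Scheme.Cover.hom_ext 𝒲 _ _ fun z => ?_
    show pullback.fst q (c (k z)) ≫ _ = pullback.fst q (c (k z)) ≫ _
    have e1 : pullback.fst q (c (k z)) ≫ pullback.fst (c i) (c j) = pullback.snd q (c (k z)) ≫ a z := by
      rw [← cancel_mono (c i), Category.assoc, Category.assoc, ha z]
      exact pullback.condition
    have e2 : pullback.fst q (c (k z)) ≫ pullback.snd (c i) (c j) = pullback.snd q (c (k z)) ≫ b z := by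
      rw [← cancel_mono (c j), Category.assoc, Category.assoc, hb z, ← hq]
      exact pullback.condition
    rw [reassoc_of% e1, reassoc_of% e2, hma, hmb]
  exact ⟨𝒰.glueMorphisms m hcomp, fun i => 𝒰.ι_glueMorphisms m hcomp i,
    fun p hp => Scheme.Cover.hom_ext 𝒰 _ _ fun i => (hp i).trans (𝒰.ι_glueMorphisms m hcomp i).symm⟩

section emb

variable {S P : Scheme.{u}} {𝒮 : RelProj.QCGrAlg S} {p : P ⟶ S}
  {chart : ∀ (U : S.Opens) (hU : IsAffineOpen U), (((p ⁻¹ᵁ U : P.Opens) : Scheme.{u}) ≅ Proj (𝒮.deg U hU))}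
  (hP : RelProj.IsRelProj 𝒮 p chart)

include hP in
theorem map_res_emb (U : S.Opens) (hU : IsAffineOpen U) (r : Γ(S, U)) :
    Proj.map (𝒮.res hU (hU.basicOpen r) (S.basicOpen_le r)) (𝒮.irrelevant_le_map U hU r) ≫ RelProj.emb p chart U hU =
      RelProj.emb p chart (S.basicOpen r) (hU.basicOpen r) := by
  rw [RelProj.emb, RelProj.emb, ← cancel_epi (chart (S.basicOpen r) (hU.basicOpen r)).hom, ← reassoc_of% (hP.chart_res U hU r)]
  simp

include hP in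
theorem emb_comp (U : S.Opens) (hU : IsAffineOpen U) :
    RelProj.emb p chart U hU ≫ p =
      Proj.toSpecZero (𝒮.deg U hU) ≫ Spec.map (𝒮.strZero U hU) ≫ hU.fromSpec := by
  rw [RelProj.emb, Category.assoc, ← hP.chart_over U hU, Iso.inv_hom_id_assoc]

theorem emb_mem (U : S.Opens) (hU : IsAffineOpen U) (y : Proj (𝒮.deg U hU)) :
    p.base (RelProj.emb p chart U hU y) ∈ U :=
  ((chart U hU).inv y).2

theorem exists_emb_eq (U : S.Opens) (hU : IsAffineOpen U) (x : P) (hx : p.base x ∈ U) :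
    ∃ y, RelProj.emb p chart U hU y = x := by
  refine ⟨(chart U hU).hom ⟨x, hx⟩, ?_⟩
  show ((chart U hU).hom ≫ RelProj.emb p chart U hU) (⟨x, hx⟩ : (p ⁻¹ᵁ U : P.Opens)) = x
  rw [RelProj.emb, Iso.hom_inv_id_assoc]
  rfl

end emb

variable {S S' P P' : Scheme.{u}} {g : S' ⟶ S} {𝒮 : RelProj.QCGrAlg S} {𝒮' : RelProj.QCGrAlg S'}
  (u : RelProj.QGrHom g 𝒮 𝒮') {p : P ⟶ S}
  {chart : ∀ (U : S.Opens) (hU : IsAffineOpen U), (((p ⁻¹ᵁ U : P.Opens) : Scheme.{u}) ≅ Proj (𝒮.deg U hU))}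
  (hP : RelProj.IsRelProj 𝒮 p chart) {p' : P' ⟶ S'}
  {chart' : ∀ (U : S'.Opens) (hU : IsAffineOpen U), (((p' ⁻¹ᵁ U : P'.Opens) : Scheme.{u}) ≅ Proj (𝒮'.deg U hU))}
  (hP' : RelProj.IsRelProj 𝒮' p' chart')

/-- The index of a standard chart of `G(u)`. -/
structure Ix : Type u where
  U : S.Opens
  hU : IsAffineOpen U
  U' : S'.Opens
  hU' : IsAffineOpen U'
  hle : U' ≤ g ⁻¹ᵁ U
  d : ℕ
  hd : 0 < d
  f : 𝒮.presheaf.obj (op U)
  hf : f ∈ 𝒮.deg U hU d

variable {u}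

/-- The source of a standard chart. -/
noncomputable abbrev Ix.src (i : Ix (g := g) (𝒮 := 𝒮)) : Scheme.{u} :=
  Spec (CommRingCat.of (Away (𝒮'.deg i.U' i.hU') (u.gradedAt i.U i.hU i.U' i.hU' i.hle i.f)))

variable (u p' chart') in
/-- A standard chart of `G(u)`. -/
noncomputable def Ix.c (i : Ix (g := g) (𝒮 := 𝒮)) : i.src (u := u) ⟶ (RelProj.domQ u p' chart' : Scheme.{u}) :=
  IsOpenImmersion.lift (RelProj.domQ u p' chart').ι (RelProj.awayEmb u p' chart' i.U i.hU i.U' i.hU' i.hle i.hd i.f i.hf)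
    (RelProj.range_awayEmb_subset_domQ u p' chart' i.U i.hU i.U' i.hU' i.hle i.hd i.f i.hf)

variable (u p chart) in
/-- The morphism on a standard chart. -/
noncomputable def Ix.m (i : Ix (g := g) (𝒮 := 𝒮)) : i.src (u := u) ⟶ P :=
  Spec.map (CommRingCat.ofHom (Away.map (u.gradedAt i.U i.hU i.U' i.hU' i.hle) i.f)) ≫
    Proj.awayι (𝒮.deg i.U i.hU) i.f i.hf i.hd ≫ RelProj.emb p chart i.U i.hU

theorem Ix.c_ι (i : Ix (g := g) (𝒮 := 𝒮)) :
    i.c u p' chart' ≫ (RelProj.domQ u p' chart').ι =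
      Proj.awayι (𝒮'.deg i.U' i.hU') (u.gradedAt i.U i.hU i.U' i.hU' i.hle i.f)
        ((u.gradedAt i.U i.hU i.U' i.hU' i.hle).map_mem i.hf) i.hd ≫ RelProj.emb p' chart' i.U' i.hU' :=
  IsOpenImmersion.lift_fac _ _ _

instance (i : Ix (g := g) (𝒮 := 𝒮)) : IsOpenImmersion (i.c u p' chart') := by
  have : IsOpenImmersion (i.c u p' chart' ≫ (RelProj.domQ u p' chart').ι) := by
    rw [Ix.c_ι]; infer_instance
  exact IsOpenImmersion.of_comp _ (RelProj.domQ u p' chart').ι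

theorem Ix.mem_range_c (i : Ix (g := g) (𝒮 := 𝒮)) (x : (RelProj.domQ u p' chart' : Scheme.{u})) :
    x ∈ Set.range (i.c u p' chart') ↔ ∃ y, RelProj.emb p' chart' i.U' i.hU' y = x.1 ∧
      u.gradedAt i.U i.hU i.U' i.hU' i.hle i.f ∉ y.asHomogeneousIdeal := by
  constructor
  · rintro ⟨z, rfl⟩
    refine ⟨Proj.awayι (𝒮'.deg i.U' i.hU') _ ((u.gradedAt i.U i.hU i.U' i.hU' i.hle).map_mem i.hf) i.hd z,
      congrArg (fun (q : i.src (u := u) ⟶ P') => q.base z) (Ix.c_ι (p' := p') (chart' := chart') i).symm, ?_⟩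
    exact (ProjectiveSpectrum.mem_basicOpen _ _ _).mp ((Proj.opensRange_awayι _ _ _ i.hd).le ⟨z, rfl⟩)
  · rintro ⟨y, hy, hfy⟩
    obtain ⟨z, hz⟩ := (Proj.opensRange_awayι (𝒮'.deg i.U' i.hU') _
      ((u.gradedAt i.U i.hU i.U' i.hU' i.hle).map_mem i.hf) i.hd).ge ((ProjectiveSpectrum.mem_basicOpen _ _ _).mpr hfy)
    refine ⟨z, Subtype.ext ?_⟩
    refine (congrArg (fun (q : i.src (u := u) ⟶ P') => q.base z) (Ix.c_ι (p' := p') (chart' := chart') i)).trans ?_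
    exact (congrArg (RelProj.emb p' chart' i.U' i.hU') hz).trans hy

theorem exists_ix (x : (RelProj.domQ u p' chart' : Scheme.{u})) :
    ∃ i : Ix (g := g) (𝒮 := 𝒮), x ∈ Set.range (i.c u p' chart') := by
  obtain ⟨⟨⟨⟨U, hU⟩, ⟨U', hU'⟩⟩, hle⟩, y, hy, hyx⟩ := Opens.mem_iSup.mp x.2
  obtain ⟨d, f, hd, hf, hfy⟩ := exists_hom_of_mem_domOpen _ hy
  exact ⟨⟨U, hU, U', hU', hle, d, hd, f, hf⟩, (Ix.mem_range_c _ x).mpr ⟨y, hyx, hfy⟩⟩

theorem gradedAt_res (U : S.Opens) (hU : IsAffineOpen U) (U' : S'.Opens) (hU' : IsAffineOpen U') (hle : U' ≤ g ⁻¹ᵁ U)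
    {W : S.Opens} (hW : IsAffineOpen W) {W' : S'.Opens} (hW' : IsAffineOpen W') (hleW : W' ≤ g ⁻¹ᵁ W)
    (hWU : W ≤ U) (hWU' : W' ≤ U') (x : 𝒮.presheaf.obj (op U)) :
    𝒮'.res hU' hW' hWU' (u.gradedAt U hU U' hU' hle x) = u.gradedAt W hW W' hW' hleW (𝒮.res hU hW hWU x) := by
  simp only [RelProj.QCGrAlg.res_apply, RelProj.QGrHom.gradedAt_apply]
  exact (ConcreteCategory.congr_hom (u.appLE_map hle hWU') x).trans
    (ConcreteCategory.congr_hom (u.map_appLE hWU hleW) x).symm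

include hP hP' in
theorem exists_step (i : Ix (g := g) (𝒮 := 𝒮)) (r : Γ(S, i.U)) (s : Γ(S', i.U')) (W : S.Opens) (hW : IsAffineOpen W)
    (eW : W = S.basicOpen r) (W' : S'.Opens) (hW' : IsAffineOpen W') (eW' : W' = S'.basicOpen s)
    (hleW : W' ≤ g ⁻¹ᵁ W) {e : ℕ} (h : 𝒮.presheaf.obj (op W)) (hh : h ∈ 𝒮.deg W hW e) (k : Ix (g := g) (𝒮 := 𝒮))
    (k₀ : 𝒮.presheaf.obj (op W)) (hk₀ : k₀ = 𝒮.res i.hU hW (eW.le.trans (S.basicOpen_le r)) i.f * h)
    (D : ℕ) (hD : 0 < D) (hDe : D = i.d + e) (hkd : k₀ ∈ 𝒮.deg W hW D) (hk : k = ⟨W, hW, W', hW', hleW, D, hD, k₀, hkd⟩) :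
    ∃ a : k.src (u := u) ⟶ i.src (u := u), a ≫ i.c u p' chart' = k.c u p' chart' ∧ a ≫ i.m u p chart = k.m u p chart := by
  subst hk eW eW' hDe
  obtain ⟨a, ha1, ha2⟩ := exists_chart_step (u.gradedAt i.U i.hU i.U' i.hU' i.hle)
    (𝒮.res i.hU hW (S.basicOpen_le r)) (𝒮.irrelevant_le_map i.U i.hU r)
    (u.gradedAt _ hW _ hW' hleW) (𝒮'.res i.hU' hW' (S'.basicOpen_le s)) (𝒮'.irrelevant_le_map i.U' i.hU' s)
    (fun x => gradedAt_res i.U i.hU i.U' i.hU' i.hle hW hW' hleW _ _ x) i.hd i.f i.hf h hh k₀ hk₀ hkd hD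
  refine ⟨a, ?_, ?_⟩
  · rw [← cancel_mono (RelProj.domQ u p' chart').ι, Category.assoc, Ix.c_ι, Ix.c_ι, reassoc_of% ha1,
      map_res_emb hP' i.U' i.hU' s]
  · simp only [Ix.m]
    rw [reassoc_of% ha2, map_res_emb hP i.U i.hU r]

include hP hP' in
theorem exists_overlap (i j : Ix (g := g) (𝒮 := 𝒮)) (x : (RelProj.domQ u p' chart' : Scheme.{u}))
    (hi : x ∈ Set.range (i.c u p' chart')) (hj : x ∈ Set.range (j.c u p' chart')) :
    ∃ k : Ix (g := g) (𝒮 := 𝒮), ∃ (a : k.src (u := u) ⟶ i.src (u := u)) (b : k.src (u := u) ⟶ j.src (u := u)),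
      x ∈ Set.range (k.c u p' chart') ∧ a ≫ i.c u p' chart' = k.c u p' chart' ∧ b ≫ j.c u p' chart' = k.c u p' chart' ∧
        a ≫ i.m u p chart = k.m u p chart ∧ b ≫ j.m u p chart = k.m u p chart := by
  obtain ⟨y, hy, hfy⟩ := (Ix.mem_range_c i x).mp hi
  obtain ⟨z, hz, hgz⟩ := (Ix.mem_range_c j x).mp hj
  have hx1 : p'.base x.1 ∈ i.U' := hy ▸ emb_mem i.U' i.hU' y
  have hx2 : p'.base x.1 ∈ j.U' := hz ▸ emb_mem j.U' j.hU' z
  obtain ⟨r, r', hrr, hxr⟩ := exists_basicOpen_le_affine_inter i.hU j.hU (g.base (p'.base x.1)) ⟨i.hle hx1, j.hle hx2⟩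
  obtain ⟨s, s', hss, hxs⟩ := exists_basicOpen_le_affine_inter i.hU' j.hU' (p'.base x.1) ⟨hx1, hx2⟩
  let t : Γ(S', i.U') := g.appLE i.U i.U' i.hle r
  let t' : Γ(S', j.U') := g.appLE j.U j.U' j.hle r'
  have hW'2 : S'.basicOpen (s * t) = S'.basicOpen (s' * t') := by
    rw [Scheme.basicOpen_mul, Scheme.basicOpen_mul, hss, Scheme.basicOpen_appLE, Scheme.basicOpen_appLE, hrr]
    have hle₁ : S'.basicOpen s' ≤ i.U' := hss ▸ S'.basicOpen_le _
    have hle₂ : S'.basicOpen s' ≤ j.U' := S'.basicOpen_le _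
    rw [← inf_assoc, inf_eq_left.mpr hle₁, ← inf_assoc, inf_eq_left.mpr hle₂]
  have hxW' : p'.base x.1 ∈ S'.basicOpen (s * t) := by
    rw [Scheme.basicOpen_mul, Scheme.basicOpen_appLE]
    exact ⟨hxs, hx1, hxr⟩
  have hleW : S'.basicOpen (s * t) ≤ g ⁻¹ᵁ S.basicOpen r := by
    rw [Scheme.basicOpen_mul, Scheme.basicOpen_appLE]
    exact inf_le_right.trans inf_le_right
  have hW := i.hU.basicOpen r
  have hW' := i.hU'.basicOpen (s * t)
  let fW := 𝒮.res i.hU hW (S.basicOpen_le r) i.f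
  let gW := 𝒮.res j.hU hW (hrr.le.trans (S.basicOpen_le r')) j.f
  have hfW : fW ∈ 𝒮.deg _ hW i.d := (𝒮.res i.hU hW (S.basicOpen_le r)).map_mem i.hf
  have hgW : gW ∈ 𝒮.deg _ hW j.d := (𝒮.res j.hU hW (hrr.le.trans (S.basicOpen_le r'))).map_mem j.hf
  let k : Ix (g := g) (𝒮 := 𝒮) := ⟨_, hW, _, hW', hleW, i.d + j.d, Nat.add_pos_left i.hd _, fW * gW, SetLike.mul_mem_graded hfW hgW⟩
  obtain ⟨a, ha, hma⟩ := exists_step hP hP' i r (s * t) _ hW rfl _ hW' rfl hleW gW hgW k (fW * gW) rfl _ _ rfl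
    (SetLike.mul_mem_graded hfW hgW) rfl
  obtain ⟨b, hb, hmb⟩ := exists_step hP hP' j r' (s' * t') _ hW hrr _ hW' hW'2 hleW fW hfW k (fW * gW) (mul_comm _ _) _ _
    (add_comm _ _) (SetLike.mul_mem_graded hfW hgW) rfl
  refine ⟨k, a, b, (Ix.mem_range_c k x).mpr ?_, ha, hb, hma, hmb⟩
  obtain ⟨w, hw⟩ := exists_emb_eq (chart := chart') _ hW' x.1 hxW'
  refine ⟨w, hw, fun h => ?_⟩
  have key : ∀ (l : Ix (g := g) (𝒮 := 𝒮)) (σ : Γ(S', l.U')) (V : S'.Opens) (hV : IsAffineOpen V)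
      (eV : V = S'.basicOpen σ) (w : Proj (𝒮'.deg V hV)) (y : Proj (𝒮'.deg l.U' l.hU')),
      RelProj.emb p' chart' V hV w = RelProj.emb p' chart' l.U' l.hU' y →
      u.gradedAt l.U l.hU l.U' l.hU' l.hle l.f ∉ y.asHomogeneousIdeal →
        𝒮'.res l.hU' hV (eV.le.trans (S'.basicOpen_le σ)) (u.gradedAt l.U l.hU l.U' l.hU' l.hle l.f) ∉
          w.asHomogeneousIdeal := by
    rintro l σ V hV rfl w y e hl
    obtain rfl : Proj.map _ (𝒮'.irrelevant_le_map l.U' l.hU' σ) w = y :=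
      (RelProj.emb p' chart' l.U' l.hU').isOpenEmbedding.injective
        ((congrArg (fun q => q.base w) (map_res_emb hP' l.U' l.hU' σ)).trans e)
    exact hl
  rcases w.isPrime.mem_or_mem (show u.gradedAt _ hW _ hW' hleW fW * u.gradedAt _ hW _ hW' hleW gW ∈
    w.asHomogeneousIdeal.toIdeal by rw [← map_mul]; exact h) with h' | h'
  · refine key i (s * t) _ hW' rfl w y (hw.trans hy.symm) hfy ?_
    rw [gradedAt_res i.U i.hU i.U' i.hU' i.hle hW hW' hleW (S.basicOpen_le r) _ i.f]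
    exact h'
  · refine key j (s' * t') _ hW' hW'2 w z (hw.trans hz.symm) hgz ?_
    rw [gradedAt_res j.U j.hU j.U' j.hU' j.hle hW hW' hleW (hrr.le.trans (S.basicOpen_le r')) _ j.f]
    exact h'

include hP hP' in
/-- The morphism `G(u) ⟶ Proj 𝒮`. -/
theorem existsUnique_isProjQMapOn :
    ∃! v : (RelProj.domQ u p' chart' : Scheme.{u}) ⟶ P,
      RelProj.IsProjQMapOn u p chart p' chart' (RelProj.domQ u p' chart') v := by
  obtain ⟨v, hv, hu⟩ := existsUnique_of_charts' (fun i : Ix (g := g) (𝒮 := 𝒮) => i.src (u := u))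
    (fun i => i.c u p' chart') exists_ix (fun i => i.m u p chart) (exists_overlap hP hP')
  exact ⟨v, fun U hU U' hU' hle d hd f hf _ => hv ⟨U, hU, U', hU', hle, d, hd, f, hf⟩,
    fun w hw => hu w fun i => hw i.U i.hU i.U' i.hU' i.hle i.d i.hd i.f i.hf _⟩

include hP hP' in
theorem qmap_comp {v : (RelProj.domQ u p' chart' : Scheme.{u}) ⟶ P}
    (hv : RelProj.IsProjQMapOn u p chart p' chart' (RelProj.domQ u p' chart') v) :
    v ≫ p = (RelProj.domQ u p' chart').ι ≫ p' ≫ g := by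
  choose idx hidx using fun x : (RelProj.domQ u p' chart' : Scheme.{u}) => exists_ix (g := g) (𝒮 := 𝒮) (u := u) x
  let 𝒰 : (RelProj.domQ u p' chart' : Scheme.{u}).OpenCover :=
    { I₀ := Ix (g := g) (𝒮 := 𝒮)
      X := fun i => i.src (u := u)
      f := fun i => i.c u p' chart'
      mem₀ := by
        rw [Scheme.presieve₀_mem_precoverage_iff]
        exact ⟨fun x => ⟨idx x, hidx x⟩, inferInstance⟩ }
  refine Scheme.Cover.hom_ext 𝒰 _ _ fun i => ?_
  have h1 : i.c u p' chart' ≫ v = i.m u p chart := hv i.U i.hU i.U' i.hU' i.hle i.d i.hd i.f i.hf _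
  show i.c u p' chart' ≫ v ≫ p = i.c u p' chart' ≫ (RelProj.domQ u p' chart').ι ≫ p' ≫ g
  rw [reassoc_of% h1, reassoc_of% i.c_ι, Ix.m]
  simp only [Category.assoc]
  rw [emb_comp hP, reassoc_of% (emb_comp hP' i.U' i.hU'), Proj.awayι_toSpecZero_assoc, Proj.awayι_toSpecZero_assoc,
    ← IsAffineOpen.SpecMap_appLE_fromSpec g i.hU i.hU' i.hle, ← Spec.map_comp_assoc, ← Spec.map_comp_assoc,
    ← Spec.map_comp_assoc, ← Spec.map_comp_assoc]
  congr 2
  ext r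
  have e := ConcreteCategory.congr_hom (u.str_appLE i.U i.U' i.hle) r
  simp [HomogeneousLocalization.fromZeroRingHom, Away.map, HomogeneousLocalization.map_mk] at e ⊢
  exact congrArg (fun q => Localization.mk q 1) e

end Groth.Agent.RelProjBasic
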