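import Groth.Agent.RelProjBasic.QMap

/-!
# The morphism `G(φ) ⟶ Proj 𝒜` over the identity, chart by chart
-/

set_option autoImplicit false
set_option maxHeartbeats 1600000
universe u
open CategoryTheory CategoryTheory.Limits AlgebraicGeometry TopologicalSpace Opposite HomogeneousLocalization
open scoped HomogeneousIdeal

set_option backward.isDefEq.respectTransparency false

namespace Groth.Agent.RelProjBasic

section

variable {σ τ A B : Type u} [CommRing A] [SetLike σ A] [AddSubgroupClass σ A]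
  [CommRing B] [SetLike τ B] [AddSubgroupClass τ B] {𝒜 : ℕ → σ} [GradedRing 𝒜] {ℬ : ℕ → τ} [GradedRing ℬ]
  (φ : 𝒜 →+*ᵍ ℬ)

/-- A property local at the target holds for `G(φ) ⟶ Proj A` if it holds on the standard charts. -/
theorem dom_of_away {p : (RelCone.domOpen φ : Scheme.{u}) ⟶ Proj 𝒜}
    (hp : ∀ (d : ℕ) (f : A) (hd : 0 < d) (hf : f ∈ 𝒜 d),
      dchart φ hf hd ≫ p = Spec.map (CommRingCat.ofHom (Away.map φ f)) ≫ Proj.awayι 𝒜 f hf hd)
    {P : MorphismProperty Scheme.{u}} [IsZariskiLocalAtTarget P]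
    (h : ∀ (d : ℕ) (s : A), 0 < d → s ∈ 𝒜 d → P (Spec.map (CommRingCat.ofHom (Away.map φ s)))) : P p := by
  refine IsZariskiLocalAtTarget.of_openCover (Proj.affineOpenCover 𝒜).openCover fun i => ?_
  obtain ⟨⟨d, hd⟩, ⟨s, hs⟩⟩ := i
  have hrange : p ⁻¹ᵁ (Proj.awayι 𝒜 s hs hd).opensRange = (dchart φ hs hd).opensRange := by
    refine Eq.trans ?_ (show (RelCone.domOpen φ).ι ⁻¹ᵁ Proj.basicOpen ℬ (φ s) = (dchart φ hs hd).opensRange from
      Opens.ext (Set.ext fun x => (mem_range_pchart φ hd hs x).symm))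
    rw [Proj.opensRange_awayι, preimage_basicOpen_proj φ hp hd hs]
  have hpb : IsPullback (dchart φ hs hd) (Spec.map (CommRingCat.ofHom (Away.map φ s))) p (Proj.awayι 𝒜 s hs hd) :=
    (IsOpenImmersion.isPullback _ _ _ _ (hp d s hd hs) hrange).flip
  show P (pullback.snd p (Proj.awayι 𝒜 s hs hd))
  rw [← MorphismProperty.cancel_left_of_respectsIso P hpb.isoPullback.hom, IsPullback.isoPullback_hom_snd]
  exact h d s hd hs

end

variable {S P P' : Scheme.{u}} {𝒮 𝒮' : RelProj.QCGrAlg S} (u : RelProj.QGrHom (𝟙 S) 𝒮 𝒮') {p : P ⟶ S}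
  {chart : ∀ (U : S.Opens) (hU : IsAffineOpen U), (((p ⁻¹ᵁ U : P.Opens) : Scheme.{u}) ≅ Proj (𝒮.deg U hU))}
  (hP : RelProj.IsRelProj 𝒮 p chart) {p' : P' ⟶ S}
  {chart' : ∀ (U : S.Opens) (hU : IsAffineOpen U), (((p' ⁻¹ᵁ U : P'.Opens) : Scheme.{u}) ≅ Proj (𝒮'.deg U hU))}
  (hP' : RelProj.IsRelProj 𝒮' p' chart')

/-- `φ(U)` as a graded homomorphism. -/
abbrev self (U : S.Opens) (hU : IsAffineOpen U) : 𝒮.deg U hU →+*ᵍ 𝒮'.deg U hU :=
  u.gradedAt U hU U hU (fun _ hx => hx)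

include hP' in
theorem domQ_inf (U : S.Opens) (hU : IsAffineOpen U) :
    RelProj.domQ u p' chart' ⊓ p' ⁻¹ᵁ U = RelProj.emb p' chart' U hU ''ᵁ RelCone.domOpen (self u U hU) := by
  refine le_antisymm (fun x hx => ?_) ?_
  · obtain ⟨i, hi⟩ := exists_ix (g := 𝟙 S) (𝒮 := 𝒮) (u := u) (⟨x, hx.1⟩ : (RelProj.domQ u p' chart' : Scheme.{u}))
    obtain ⟨y, hy, hfy⟩ := (Ix.mem_range_c i _).mp hi
    have hxi : p'.base x ∈ i.U' := by
      have h := emb_mem (chart := chart') i.U' i.hU' y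
      rw [hy] at h
      exact h
    obtain ⟨r, s, hrs, hxr⟩ := exists_basicOpen_le_affine_inter hU i.hU' (p'.base x) ⟨hx.2, hxi⟩
    have hW := hU.basicOpen r
    have hWiU : S.basicOpen r ≤ i.U := hrs.le.trans ((S.basicOpen_le s).trans i.hle)
    obtain ⟨w, hw⟩ := exists_emb_eq (chart := chart') _ hW x hxr
    have key : ∀ (V : S.Opens) (hV : IsAffineOpen V) (eV : V = S.basicOpen s) (w : Proj (𝒮'.deg V hV)),
        RelProj.emb p' chart' V hV w = x → 𝒮'.res i.hU' hV (eV.le.trans (S.basicOpen_le s))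
          (u.gradedAt i.U i.hU i.U' i.hU' i.hle i.f) ∉ w.asHomogeneousIdeal := by
      rintro V hV rfl w e
      obtain rfl : Proj.map _ (𝒮'.irrelevant_le_map i.U' i.hU' s) w = y :=
        (RelProj.emb p' chart' i.U' i.hU').isOpenEmbedding.injective
          (((congrArg (fun q => q.base w) (map_res_emb hP' i.U' i.hU' s)).trans e).trans hy.symm)
      exact hfy
    have hne := key _ hW hrs w hw
    rw [gradedAt_res i.U i.hU i.U' i.hU' i.hle hW hW (fun _ hz => hz) hWiU _ i.f] at hne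
    obtain ⟨h, hh, hhw⟩ : ∃ h ∈ ((𝒮.deg U hU)₊).toIdeal,
        self u _ hW (𝒮.res hU hW (S.basicOpen_le r) h) ∉ w.asHomogeneousIdeal.toIdeal := by
      by_contra hc
      push Not at hc
      have hle : ((𝒮.deg (S.basicOpen r) hW)₊).toIdeal ≤ w.asHomogeneousIdeal.toIdeal.comap (self u _ hW) := by
        refine le_trans (show _ ≤ _ from 𝒮.irrelevant_le_map U hU r) ?_
        exact Ideal.map_le_iff_le_comap.mpr fun z hz => hc z hz
      exact hne (hle ((𝒮.res i.hU hW hWiU).map_mem i.hf |> HomogeneousIdeal.mem_irrelevant_of_mem _ i.hd))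
    rw [← gradedAt_res U hU U hU (show U ≤ (𝟙 S : S ⟶ S) ⁻¹ᵁ U from fun _ hz => hz) hW hW (show S.basicOpen r ≤ (𝟙 S : S ⟶ S) ⁻¹ᵁ S.basicOpen r from fun _ hz => hz) (S.basicOpen_le r) (S.basicOpen_le r) h] at hhw
    refine ⟨Proj.map _ (𝒮'.irrelevant_le_map U hU r) w, (RelCone.mem_domOpen _ _).mpr ⟨h, hh, hhw⟩, ?_⟩
    exact (congrArg (fun q => q.base w) (map_res_emb hP' U hU r)).trans hw
  · rintro _ ⟨y, hy, rfl⟩
    exact ⟨Opens.mem_iSup.mpr ⟨⟨(⟨U, hU⟩, ⟨U, hU⟩), fun _ hx => hx⟩, ⟨y, hy, rfl⟩⟩, emb_mem U hU y⟩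

include hP hP' in
/-- A property local at the target holds for `G(u) ⟶ Proj 𝒮` if it holds on the standard charts. -/
theorem qmap_of_away {v : (RelProj.domQ u p' chart' : Scheme.{u}) ⟶ P}
    (hv : RelProj.IsProjQMapOn u p chart p' chart' (RelProj.domQ u p' chart') v)
    {Q : MorphismProperty Scheme.{u}} [IsZariskiLocalAtTarget Q]
    (h : ∀ (U : S.Opens) (hU : IsAffineOpen U) (d : ℕ) (f : 𝒮.presheaf.obj (op U)), 0 < d → f ∈ 𝒮.deg U hU d →
      Q (Spec.map (CommRingCat.ofHom (Away.map (self u U hU) f)))) : Q v := by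
  refine IsZariskiLocalAtTarget.of_openCover (P.openCoverOfIsOpenCover _ (isOpenCover_preimage p)) fun U => ?_
  obtain ⟨U, hU⟩ := U
  let ψ := self u U hU
  obtain ⟨pU, hpU, huU⟩ := existsUnique_proj ψ
  have hrange : Set.range ((RelCone.domOpen ψ).ι ≫ RelProj.emb p' chart' U hU).base ⊆
      Set.range (RelProj.domQ u p' chart').ι.base := by
    rw [Scheme.Opens.range_ι]
    rintro _ ⟨y, rfl⟩
    exact ((domQ_inf u hP' U hU).ge ⟨y.1, y.2, rfl⟩).1
  let j : (RelCone.domOpen ψ : Scheme.{u}) ⟶ (RelProj.domQ u p' chart' : Scheme.{u}) :=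
    IsOpenImmersion.lift (RelProj.domQ u p' chart').ι ((RelCone.domOpen ψ).ι ≫ RelProj.emb p' chart' U hU) hrange
  have hjι : j ≫ (RelProj.domQ u p' chart').ι = (RelCone.domOpen ψ).ι ≫ RelProj.emb p' chart' U hU :=
    IsOpenImmersion.lift_fac _ _ _
  have : IsOpenImmersion j := by
    have : IsOpenImmersion (j ≫ (RelProj.domQ u p' chart').ι) := by rw [hjι]; infer_instance
    exact IsOpenImmersion.of_comp _ (RelProj.domQ u p' chart').ι
  have hjv : j ≫ v = (pU ≫ (chart U hU).inv) ≫ (p ⁻¹ᵁ U).ι := by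
    choose dd ff hd hf hx using exists_pchart ψ
    let 𝒲 : (RelCone.domOpen ψ : Scheme.{u}).OpenCover :=
      { I₀ := (RelCone.domOpen ψ : Scheme.{u})
        X := fun x => Spec (CommRingCat.of (Away (𝒮'.deg U hU) (ψ (ff x))))
        f := fun x => dchart ψ (hf x) (hd x)
        mem₀ := by
          rw [Scheme.presieve₀_mem_precoverage_iff]
          exact ⟨fun x => ⟨x, hx x⟩, inferInstance⟩ }
    refine Scheme.Cover.hom_ext 𝒲 _ _ fun x => ?_
    let i : Ix (g := 𝟙 S) (𝒮 := 𝒮) := ⟨U, hU, U, hU, fun _ hz => hz, dd x, hd x, ff x, hf x⟩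
    have e1 : dchart ψ (hf x) (hd x) ≫ j = i.c u p' chart' := by
      rw [← cancel_mono (RelProj.domQ u p' chart').ι, Category.assoc, hjι, ← Category.assoc, pchart_ι, Ix.c_ι]
    have e2 : i.c u p' chart' ≫ v = i.m u p chart := hv _ hU _ hU _ _ (hd x) _ (hf x) _
    show dchart ψ (hf x) (hd x) ≫ _ = dchart ψ (hf x) (hd x) ≫ _
    rw [reassoc_of% e1, e2, Category.assoc, reassoc_of% (hpU (dd x) (ff x) (hd x) (hf x))]
    simp only [Ix.m, RelProj.emb]
    rfl
  have hpre : v ⁻¹ᵁ (p ⁻¹ᵁ U : P.Opens).ι.opensRange = j.opensRange := by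
    rw [Scheme.Opens.opensRange_ι, ← Scheme.Hom.comp_preimage, qmap_comp hP hP' hv]
    refine Opens.ext (Set.ext fun x => ⟨fun hx => ?_, ?_⟩)
    · obtain ⟨y, hy, hyx⟩ := (domQ_inf u hP' U hU).le ⟨x.2, hx⟩
      exact ⟨⟨y, hy⟩, Subtype.ext ((congrArg (fun q => q.base (⟨y, hy⟩ : (RelCone.domOpen ψ : Scheme.{u}))) hjι).trans hyx)⟩
    · rintro ⟨y, rfl⟩
      show p'.base ((j ≫ (RelProj.domQ u p' chart').ι).base y) ∈ U
      rw [hjι]
      exact emb_mem U hU y.1
  have hpb : IsPullback j (pU ≫ (chart U hU).inv) v (p ⁻¹ᵁ U).ι :=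
    (IsOpenImmersion.isPullback _ _ _ _ hjv hpre).flip
  show Q (pullback.snd v (p ⁻¹ᵁ U).ι)
  rw [← MorphismProperty.cancel_left_of_respectsIso Q hpb.isoPullback.hom, IsPullback.isoPullback_hom_snd,
    MorphismProperty.cancel_right_of_respectsIso Q]
  exact dom_of_away ψ hpU fun d s hd hs => h U hU d s hd hs

include hP' in
theorem domQ_eq_top (h : ∀ (U : S.Opens) (hU : IsAffineOpen U), RelCone.domOpen (self u U hU) = ⊤) :
    RelProj.domQ u p' chart' = ⊤ := by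
  refine eq_top_iff.mpr fun x _ => ?_
  obtain ⟨U, hU, hxU, -⟩ := exists_isAffineOpen_mem_and_subset (x := p'.base x) (U := ⊤) (Opens.mem_top _)
  obtain ⟨y, hy⟩ := exists_emb_eq (chart := chart') U hU x hxU
  exact ((domQ_inf u hP' U hU).ge ⟨y, by rw [h U hU]; exact trivial, hy⟩).1

include hP hP' in
theorem qmap_top_of_away {h : P' ⟶ P} (hh : RelProj.IsProjQMap u p chart p' chart' h)
    {Q : MorphismProperty Scheme.{u}} [IsZariskiLocalAtTarget Q]
    (hQ : ∀ (U : S.Opens) (hU : IsAffineOpen U) (d : ℕ) (f : 𝒮.presheaf.obj (op U)), 0 < d → f ∈ 𝒮.deg U hU d →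
      Q (Spec.map (CommRingCat.ofHom (Away.map (self u U hU) f)))) : Q h := by
  have hv : RelProj.IsProjQMapOn u p chart p' chart' (RelProj.domQ u p' chart')
      ((RelProj.domQ u p' chart').ι ≫ h) := fun U hU U' hU' hle d hd f hf hW => by
    rw [IsOpenImmersion.lift_fac_assoc]
    exact hh.2 U hU U' hU' hle d hd f hf
  have := qmap_of_away u hP hP' hv hQ
  have hiso : IsIso (RelProj.domQ u p' chart').ι := by
    rw [hh.1]
    exact inferInstanceAs (IsIso (Scheme.topIso P').hom)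
  rwa [MorphismProperty.cancel_left_of_respectsIso Q] at this

theorem self_ofHom {φ : 𝒮.toQCAlg ⟶ 𝒮'.toQCAlg} (hφ : RelProj.IsGradedHom φ) (U : S.Opens) (hU : IsAffineOpen U) :
    self (RelProj.QGrHom.ofHom φ hφ) U hU = RelProj.gradedHomAt φ hφ U hU := by
  refine GradedRingHom.ext fun x => ?_
  show (𝒮'.presheaf.map (homOfLE (le_refl U)).op).hom ((φ.hom.app (op U)).hom x) = (φ.hom.app (op U)).hom x
  rw [show (homOfLE (le_refl U)).op = 𝟙 (op U) from rfl, CategoryTheory.Functor.map_id]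
  rfl

end Groth.Agent.RelProjBasic
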