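import Groth.Agent.RelProjBasic.ConeVertex

/-!
# The retraction of the pointed projective cone
-/

set_option autoImplicit false
set_option maxHeartbeats 1600000
universe u
open CategoryTheory CategoryTheory.Limits AlgebraicGeometry TopologicalSpace Opposite HomogeneousLocalization Graded
open scoped HomogeneousIdeal

set_option backward.isDefEq.respectTransparency false

namespace Groth.Agent.RelProjBasic

section ring

variable {σ τ A B : Type u} [CommRing A] [SetLike σ A] [AddSubgroupClass σ A]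
  [CommRing B] [SetLike τ B] [AddSubgroupClass τ B] {𝒜 : ℕ → σ} [GradedRing 𝒜] {ℬ : ℕ → τ} [GradedRing ℬ]
  (φ : 𝒜 →+*ᵍ ℬ) (ρ : ℬ →+*ᵍ 𝒜) (h : ∀ x, ρ (φ x) = x)

include h in
theorem powers_le_comap (f : A) : Submonoid.powers (φ f) ≤ (Submonoid.powers f).comap ρ := by
  rintro _ ⟨n, rfl⟩
  exact ⟨n, by simp [h]⟩

theorem retraction_comp (f : A) :
    (HomogeneousLocalization.map ρ (powers_le_comap φ ρ h f)).comp (Away.map φ f) = RingHom.id (Away 𝒜 f) := by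
  refine RingHom.ext fun x => ?_
  obtain ⟨c, rfl⟩ := HomogeneousLocalization.mk_surjective x
  apply HomogeneousLocalization.val_injective
  simp [Away.map, HomogeneousLocalization.map_mk, h]

include ρ h in
theorem surjective_specMap_away (f : A) : Function.Surjective (Spec.map (CommRingCat.ofHom (Away.map φ f))) :=
  fun w => ⟨PrimeSpectrum.comap (HomogeneousLocalization.map ρ (powers_le_comap φ ρ h f)) w,
    PrimeSpectrum.ext (Ideal.ext fun t => by
      show ((HomogeneousLocalization.map ρ (powers_le_comap φ ρ h f)).comp (Away.map φ f)) t ∈ w.asIdeal ↔ t ∈ w.asIdeal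
      rw [retraction_comp φ ρ h f]; rfl)⟩

end ring

section sheaf

variable {Y : Scheme.{u}} {𝒮 𝒮h : RelProj.QCGrAlg Y} {ι : 𝒮.toQCAlg ⟶ 𝒮h.toQCAlg}
  {z : 𝒮h.presheaf.obj (op ⊤)} (hz : RelCone.IsPolyOver 𝒮 𝒮h ι z) (U : Y.Opens) (hU : IsAffineOpen U)

/-- "`z = 0`" as a graded retraction of `ι(U)`. -/
theorem exists_retraction : ∃ ρ : 𝒮h.deg U hU →+*ᵍ 𝒮.deg U hU, ∀ x, ρ (RelProj.gradedHomAt ι hz.graded U hU x) = x := by
  classical
  let ψ := RelProj.gradedHomAt ι hz.graded U hU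
  let e := RelCone.restrictTop 𝒮h z U
  let ρ₀ : 𝒮h.presheaf.obj (op U) →+* 𝒮.presheaf.obj (op U) :=
    (Polynomial.evalRingHom 0).comp (hz.polyEquiv U hU).symm.toRingHom
  have hι : ∀ x, ρ₀ (ψ x) = x := fun x => by
    have e : hz.polyEquiv U hU (Polynomial.C x) = ψ x := by
      rw [hz.polyEquiv_apply, Polynomial.eval₂_C]; rfl
    show Polynomial.eval 0 ((hz.polyEquiv U hU).symm (ψ x)) = x
    rw [← e, RingEquiv.symm_apply_apply, Polynomial.eval_C]
  have he : ρ₀ e = 0 := by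
    have h : hz.polyEquiv U hU Polynomial.X = e := by
      rw [hz.polyEquiv_apply, Polynomial.eval₂_X]
    show Polynomial.eval 0 ((hz.polyEquiv U hU).symm e) = 0
    rw [← h, RingEquiv.symm_apply_apply, Polynomial.eval_X]
  have hker : ∀ a, a - ψ (ρ₀ a) ∈ Ideal.span {e} := by
    intro a
    obtain ⟨P, rfl⟩ := (hz.polyEquiv U hU).surjective a
    have h0 : ρ₀ (hz.polyEquiv U hU P) = P.eval 0 := by
      show Polynomial.eval 0 ((hz.polyEquiv U hU).symm (hz.polyEquiv U hU P)) = _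
      rw [RingEquiv.symm_apply_apply]
    rw [h0, ← Polynomial.coeff_zero_eq_eval_zero]
    have hC : hz.polyEquiv U hU (Polynomial.C (P.coeff 0)) = ψ (P.coeff 0) := by
      rw [hz.polyEquiv_apply, Polynomial.eval₂_C]; rfl
    obtain ⟨Q, hQ⟩ := (Polynomial.X_dvd_iff (f := P - Polynomial.C (P.coeff 0))).mpr (by simp)
    rw [← hC, ← map_sub, hQ, map_mul]
    refine Ideal.mul_mem_right _ _ (Ideal.subset_span ?_)
    show hz.polyEquiv U hU Polynomial.X = e
    rw [hz.polyEquiv_apply, Polynomial.eval₂_X]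
  have hhom : (Ideal.span {e}).IsHomogeneous (𝒮h.deg U hU) :=
    Ideal.homogeneous_span _ _ (by rintro x rfl; exact ⟨1, hz.deg_z U hU⟩)
  refine ⟨{ ρ₀ with map_mem := fun {n a} ha => ?_ }, hι⟩
  have h := hhom n (hker a)
  rw [DirectSum.decompose_sub, DirectSum.sub_apply, AddSubgroupClass.coe_sub, DirectSum.decompose_of_mem_same _ ha,
    ← GradedRingHom.map_directSumDecompose] at h
  obtain ⟨b, hb⟩ := Ideal.mem_span_singleton.mp h
  have := congrArg ρ₀ hb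
  rw [map_sub, map_mul, he, zero_mul, sub_eq_zero] at this
  show ρ₀ a ∈ 𝒮.deg U hU n
  rw [this]
  refine (congrArg (fun t => t ∈ 𝒮.deg U hU n) (hι _)).mpr (SetLike.coe_mem _)

end sheaf

section chart

variable {S P P' : Scheme.{u}} {𝒮 𝒮' : RelProj.QCGrAlg S} (u : RelProj.QGrHom (𝟙 S) 𝒮 𝒮') {p : P ⟶ S}
  {chart : ∀ (U : S.Opens) (hU : IsAffineOpen U), (((p ⁻¹ᵁ U : P.Opens) : Scheme.{u}) ≅ Proj (𝒮.deg U hU))}
  {p' : P' ⟶ S}
  {chart' : ∀ (U : S.Opens) (hU : IsAffineOpen U), (((p' ⁻¹ᵁ U : P'.Opens) : Scheme.{u}) ≅ Proj (𝒮'.deg U hU))}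

/-- The diagonal charts, with the homomorphism over `U` given in any form. -/
theorem qmap_chart_spec {v : (RelProj.domQ u p' chart' : Scheme.{u}) ⟶ P}
    (hv : RelProj.IsProjQMapOn u p chart p' chart' (RelProj.domQ u p' chart') v)
    (W : P'.Opens) (hW : W = RelProj.domQ u p' chart') (U : S.Opens) (hU : IsAffineOpen U)
    (ψ : 𝒮.deg U hU →+*ᵍ 𝒮'.deg U hU) (hψ : self u U hU = ψ) (d : ℕ) (hd : 0 < d) (f : 𝒮.presheaf.obj (op U))
    (hf : f ∈ 𝒮.deg U hU d) (g : Spec (CommRingCat.of (Away (𝒮'.deg U hU) (ψ f))) ⟶ W)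
    (hg : g ≫ W.ι = Proj.awayι (𝒮'.deg U hU) (ψ f) (Graded.map_mem ψ hf) hd ≫ RelProj.emb p' chart' U hU) :
    g ≫ (P'.isoOfEq hW).hom ≫ v =
      Spec.map (CommRingCat.ofHom (Away.map ψ f)) ≫ Proj.awayι (𝒮.deg U hU) f hf hd ≫ RelProj.emb p chart U hU := by
  subst hψ hW
  let i : Ix (g := 𝟙 S) (𝒮 := 𝒮) := ⟨U, hU, U, hU, fun _ hz => hz, d, hd, f, hf⟩
  have : g ≫ (P'.isoOfEq rfl).hom = i.c u p' chart' := by
    rw [← cancel_mono (RelProj.domQ u p' chart').ι, Ix.c_ι, Category.assoc, Scheme.isoOfEq_hom_ι]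
    exact hg
  rw [reassoc_of% this]
  exact hv U hU U hU _ d hd f hf _

/-- The diagonal charts exist and cover `G(u)`. -/
theorem exists_diag_chart (hP' : RelProj.IsRelProj 𝒮' p' chart') (W : P'.Opens) (hW : W = RelProj.domQ u p' chart')
    (ψ : ∀ (U : S.Opens) (hU : IsAffineOpen U), 𝒮.deg U hU →+*ᵍ 𝒮'.deg U hU) (hψ : ∀ U hU, self u U hU = ψ U hU)
    (x : (W : Scheme.{u})) :
    ∃ (U : S.Opens) (hU : IsAffineOpen U) (d : ℕ) (hd : 0 < d) (f : 𝒮.presheaf.obj (op U)) (hf : f ∈ 𝒮.deg U hU d)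
      (g : Spec (CommRingCat.of (Away (𝒮'.deg U hU) (ψ U hU f))) ⟶ W),
      IsOpenImmersion g ∧
      g ≫ W.ι = Proj.awayι (𝒮'.deg U hU) (ψ U hU f) (Graded.map_mem (ψ U hU) hf) hd ≫ RelProj.emb p' chart' U hU ∧
      x ∈ Set.range g := by
  obtain rfl : (fun U hU => self u U hU) = ψ := funext fun U => funext fun hU => hψ U hU
  subst hW
  obtain ⟨U, hU, hxU, -⟩ := exists_isAffineOpen_mem_and_subset (x := p' x.1) (U := ⊤) (Opens.mem_top _)
  obtain ⟨y, hy, hyx⟩ := (domQ_inf u hP' U hU).le ⟨x.2, hxU⟩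
  obtain ⟨d, f, hd, hf, hfy⟩ := exists_hom_of_mem_domOpen _ hy
  let i : Ix (g := 𝟙 S) (𝒮 := 𝒮) := ⟨U, hU, U, hU, fun _ hz => hz, d, hd, f, hf⟩
  exact ⟨U, hU, d, hd, f, hf, i.c u p' chart', inferInstance, i.c_ι, (Ix.mem_range_c i x).mpr ⟨y, hyx, hfy⟩⟩

end chart

/-- The standard charts of a relative `Proj` cover it. -/
theorem exists_awayι_emb_eq {S P : Scheme.{u}} {𝒮 : RelProj.QCGrAlg S} {p : P ⟶ S}
    {chart : ∀ (U : S.Opens) (hU : IsAffineOpen U), (((p ⁻¹ᵁ U : P.Opens) : Scheme.{u}) ≅ Proj (𝒮.deg U hU))} (x : P) :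
    ∃ (U : S.Opens) (hU : IsAffineOpen U) (d : ℕ) (hd : 0 < d) (f : 𝒮.presheaf.obj (op U)) (hf : f ∈ 𝒮.deg U hU d),
      x ∈ Set.range (Proj.awayι (𝒮.deg U hU) f hf hd ≫ RelProj.emb p chart U hU) := by
  obtain ⟨U, hU, hxU, -⟩ := exists_isAffineOpen_mem_and_subset (x := p x) (U := ⊤) (Opens.mem_top _)
  obtain ⟨y, hy⟩ := exists_emb_eq (chart := chart) U hU x hxU
  obtain ⟨w, hw⟩ := (Proj.affineOpenCover (𝒮.deg U hU)).openCover.exists_eq y |>.choose_spec
  exact ⟨U, hU, _, ((Proj.affineOpenCover (𝒮.deg U hU)).openCover.exists_eq y).choose.1.2, _,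
    ((Proj.affineOpenCover (𝒮.deg U hU)).openCover.exists_eq y).choose.2.2, w,
    (congrArg (RelProj.emb p chart U hU) hw).trans hy⟩

end Groth.Agent.RelProjBasic
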