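import Groth.Agent.RelProjBasic.QMapPreimage
import Groth.Agent.RelProjBasic.QMapId
import Groth.Agent.RelProjBasic.Retraction
import Mathlib.RingTheory.GradedAlgebra.Radical

/-!
# Composites `Proj(u) ≫ Proj(v)`
-/

set_option autoImplicit false
set_option maxHeartbeats 1600000
universe u
open CategoryTheory CategoryTheory.Limits AlgebraicGeometry TopologicalSpace Opposite HomogeneousLocalization
open scoped HomogeneousIdeal

set_option backward.isDefEq.respectTransparency false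

namespace Groth.Agent.RelProjBasic

section ring

variable {σ A : Type u} [CommRing A] [SetLike σ A] [AddSubgroupClass σ A] {𝒜 : ℕ → σ} [GradedRing 𝒜]

theorem not_isNilpotent_of_not_mem {a : A} {x : Proj 𝒜} (h : a ∉ x.asHomogeneousIdeal) : ¬ IsNilpotent a :=
  fun ⟨n, hn⟩ => h (x.isPrime.mem_of_pow_mem n (hn ▸ zero_mem _))

theorem exists_point_of_not_isNilpotent {d : ℕ} (hd : 0 < d) {a : A} (ha : a ∈ 𝒜 d) (h : ¬ IsNilpotent a) :
    ∃ x : Proj 𝒜, a ∉ x.asHomogeneousIdeal := by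
  obtain ⟨p, hp, hap⟩ : ∃ p : Ideal A, p.IsPrime ∧ a ∉ p := by
    by_contra hc
    push Not at hc
    refine h (mem_nilradical.mp ?_)
    rw [nilradical_eq_sInf]
    exact Ideal.mem_sInf.mpr fun {p} hp => hc p hp
  have hle : (p.homogeneousCore 𝒜).toIdeal ≤ p := p.toIdeal_homogeneousCore_le 𝒜
  exact ⟨⟨p.homogeneousCore 𝒜, hp.homogeneousCore,
    fun hirr => hap (hle (hirr (HomogeneousIdeal.mem_irrelevant_of_mem _ hd ha)))⟩, fun hx => hap (hle hx)⟩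

theorem exists_basicOpen_subset (O : (Proj 𝒜).Opens) {x : Proj 𝒜} (hx : x ∈ O) :
    ∃ (d : ℕ) (a : A), 0 < d ∧ a ∈ 𝒜 d ∧ a ∉ x.asHomogeneousIdeal ∧ Proj.basicOpen 𝒜 a ≤ O := by
  obtain ⟨_, ⟨a, rfl⟩, hax, haO⟩ :=
    (ProjectiveSpectrum.isTopologicalBasis_basic_opens 𝒜).exists_subset_of_mem_open hx O.isOpen
  obtain ⟨i, hi⟩ : ∃ i, GradedRing.proj 𝒜 i a ∉ x.asHomogeneousIdeal := by
    have := (ProjectiveSpectrum.basicOpen_eq_union_of_projection 𝒜 a).le hax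
    obtain ⟨i, hi⟩ := Opens.mem_iSup.mp this
    exact ⟨i, (ProjectiveSpectrum.mem_basicOpen _ _ _).mp hi⟩
  obtain ⟨e, s, he, hs, hsx⟩ : ∃ (e : ℕ) (s : A), 0 < e ∧ s ∈ 𝒜 e ∧ s ∉ x.asHomogeneousIdeal.toIdeal := by
    by_contra hc
    push Not at hc
    exact x.not_irrelevant_le ((HomogeneousIdeal.toIdeal_irrelevant_le 𝒜).mpr fun i hi z hz => hc i z hi hz)
  refine ⟨i + e, GradedRing.proj 𝒜 i a * s, Nat.add_pos_right _ he, SetLike.mul_mem_graded (SetLike.coe_mem _) hs,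
    fun h => (x.isPrime.mem_or_mem h).elim hi hsx, ?_⟩
  rw [Proj.basicOpen_mul]
  refine inf_le_left.trans (le_trans ?_ haO)
  exact fun y hy => (ProjectiveSpectrum.basicOpen_eq_union_of_projection 𝒜 a).ge (Opens.mem_iSup.mpr ⟨i, hy⟩)

theorem exists_iso_away_comp {τ ρ B C : Type u} [CommRing B] [SetLike τ B] [AddSubgroupClass τ B] [CommRing C]
    [SetLike ρ C] [AddSubgroupClass ρ C] {ℬ : ℕ → τ} [GradedRing ℬ] {𝒞 : ℕ → ρ} [GradedRing 𝒞]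
    (χ : 𝒜 →+*ᵍ ℬ) (ψ : ℬ →+*ᵍ 𝒞) (ψ' : 𝒜 →+*ᵍ 𝒞) (h : ∀ a, ψ' a = ψ (χ a)) {d : ℕ} (hd : 0 < d) {f : A}
    (hf : f ∈ 𝒜 d) :
    ∃ θ : Spec (CommRingCat.of (Away 𝒞 (ψ' f))) ≅ Spec (CommRingCat.of (Away 𝒞 (ψ (χ f)))),
      θ.hom ≫ Proj.awayι 𝒞 (ψ (χ f)) (Graded.map_mem ψ (Graded.map_mem χ hf)) hd =
        Proj.awayι 𝒞 (ψ' f) (Graded.map_mem ψ' hf) hd ∧
      θ.hom ≫ Spec.map (CommRingCat.ofHom (Away.map ψ (χ f))) ≫ Spec.map (CommRingCat.ofHom (Away.map χ f)) =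
        Spec.map (CommRingCat.ofHom (Away.map ψ' f)) := by
  obtain rfl : ψ' = ψ.comp χ := GradedRingHom.ext h
  exact ⟨Iso.refl _, Category.id_comp _, by rw [Away.map_comp, CommRingCat.ofHom_comp, Spec.map_comp]; exact Category.id_comp _⟩

end ring

theorem isPullback_comp_mono {X Y Z : Scheme.{u}} (r : X ⟶ Y) (w : Y ⟶ Z) [Mono w] :
    IsPullback (𝟙 X) r (r ≫ w) w :=
  ⟨⟨Category.id_comp _⟩, ⟨PullbackCone.IsLimit.mk _ (fun s => s.fst) (fun s => Category.comp_id _)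
    (fun s => by rw [← cancel_mono w, Category.assoc]; exact s.condition)
    (fun s m h1 _ => (Category.comp_id m).symm.trans h1)⟩⟩

variable {Y S' P P' PL : Scheme.{u}} {q : S' ⟶ Y} {𝒮 𝒯 : RelProj.QCGrAlg Y} {𝒮L : RelProj.QCGrAlg S'}
  {v : 𝒯.toQCAlg ⟶ 𝒮.toQCAlg} {hv : RelProj.IsGradedHom v} {u : RelProj.QGrHom q 𝒮 𝒮L} {u' : RelProj.QGrHom q 𝒯 𝒮L}
  (hu' : ∀ U : Y.Opens, u'.app U = v.hom.app (op U) ≫ u.app U)

include hu' in
theorem gradedAt_comp (U : Y.Opens) (hU : IsAffineOpen U) (U' : S'.Opens) (hU' : IsAffineOpen U') (hle : U' ≤ q ⁻¹ᵁ U)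
    (x : 𝒯.presheaf.obj (op U)) :
    u'.gradedAt U hU U' hU' hle x = u.gradedAt U hU U' hU' hle (RelProj.gradedHomAt v hv U hU x) := by
  simp only [RelProj.QGrHom.gradedAt_apply, RelSpec.QHom.appLE, hu', CommRingCat.comp_apply]
  rfl

variable {p : P ⟶ Y} {chart : ∀ (U : Y.Opens) (hU : IsAffineOpen U), (((p ⁻¹ᵁ U : P.Opens) : Scheme.{u}) ≅ Proj (𝒮.deg U hU))}
  (hP : RelProj.IsRelProj 𝒮 p chart) {p' : P' ⟶ Y}
  {chart' : ∀ (U : Y.Opens) (hU : IsAffineOpen U), (((p' ⁻¹ᵁ U : P'.Opens) : Scheme.{u}) ≅ Proj (𝒯.deg U hU))}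
  (hP' : RelProj.IsRelProj 𝒯 p' chart') {pL : PL ⟶ S'}
  {chartL : ∀ (U : S'.Opens) (hU : IsAffineOpen U), (((pL ⁻¹ᵁ U : PL.Opens) : Scheme.{u}) ≅ Proj (𝒮L.deg U hU))}
  (hPL : RelProj.IsRelProj 𝒮L pL chartL)

variable (hv) in
include hu' in
/-- A point in a chart of `u'` at `f` is in the chart of `u` at `v f`, and conversely. -/
theorem mem_range_c_comp (U : Y.Opens) (hU : IsAffineOpen U) (U' : S'.Opens) (hU' : IsAffineOpen U') (hle : U' ≤ q ⁻¹ᵁ U)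
    (d : ℕ) (hd : 0 < d) (f : 𝒯.presheaf.obj (op U)) (hf : f ∈ 𝒯.deg U hU d) (x : PL) (y : Proj (𝒮L.deg U' hU'))
    (_hy : RelProj.emb pL chartL U' hU' y = x) :
    u'.gradedAt U hU U' hU' hle f ∉ y.asHomogeneousIdeal ↔
      u.gradedAt U hU U' hU' hle (RelProj.gradedHomAt v hv U hU f) ∉ y.asHomogeneousIdeal := by
  rw [gradedAt_comp (hv := hv) hu']

variable (hv) in
include hv hu' in
theorem domQ_comp_le : RelProj.domQ u' pL chartL ≤ RelProj.domQ u pL chartL := by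
  intro x hx
  obtain ⟨i, hi⟩ := exists_ix (g := q) (𝒮 := 𝒯) (u := u') (⟨x, hx⟩ : (RelProj.domQ u' pL chartL : Scheme.{u}))
  obtain ⟨y, hy, hfy⟩ := (Ix.mem_range_c i _).mp hi
  refine Opens.mem_iSup.mpr ⟨⟨(⟨i.U, i.hU⟩, ⟨i.U', i.hU'⟩), i.hle⟩, y, ?_, hy⟩
  exact mem_domOpen_of _ i.hd ((RelProj.gradedHomAt v hv i.U i.hU).map_mem i.hf)
    ((mem_range_c_comp hv hu' i.U i.hU i.U' i.hU' i.hle i.d i.hd i.f i.hf x y hy).mp hfy)

section dominant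

variable {r : (RelProj.domQ u pL chartL : Scheme.{u}) ⟶ P}
  (hr : RelProj.IsProjQMapOn u p chart pL chartL (RelProj.domQ u pL chartL) r)
  {r' : (RelProj.domQ u' pL chartL : Scheme.{u}) ⟶ P'}
  (hr' : RelProj.IsProjQMapOn u' p' chart' pL chartL (RelProj.domQ u' pL chartL) r')

theorem meets_of_isDominant {Z : Scheme.{u}} (f : Z ⟶ P) [IsDominant f] (U : Y.Opens) (hU : IsAffineOpen U)
    (h : 𝒮.presheaf.obj (op U)) (y : Proj (𝒮.deg U hU)) (hy : h ∉ y.asHomogeneousIdeal) :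
    ∃ (z : Z) (y₁ : Proj (𝒮.deg U hU)), RelProj.emb p chart U hU y₁ = f z ∧ h ∉ y₁.asHomogeneousIdeal := by
  obtain ⟨_, ⟨y₁, hy₁, rfl⟩, z, hz⟩ := (Scheme.Hom.denseRange f).inter_open_nonempty
    (RelProj.emb p chart U hU ''ᵁ Proj.basicOpen (𝒮.deg U hU) h : P.Opens)
    (RelProj.emb p chart U hU ''ᵁ Proj.basicOpen (𝒮.deg U hU) h : P.Opens).isOpen
    ⟨_, y, (ProjectiveSpectrum.mem_basicOpen _ _ _).mpr hy, rfl⟩
  exact ⟨z, y₁, hz.symm, (ProjectiveSpectrum.mem_basicOpen _ _ _).mp hy₁⟩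

theorem isDominant_of_meets {Z : Scheme.{u}} (f : Z ⟶ P)
    (H : ∀ (U : Y.Opens) (hU : IsAffineOpen U) (d : ℕ) (h : 𝒮.presheaf.obj (op U)), 0 < d → h ∈ 𝒮.deg U hU d →
      ¬ IsNilpotent h → ∃ (z : Z) (y₁ : Proj (𝒮.deg U hU)), RelProj.emb p chart U hU y₁ = f z ∧ h ∉ y₁.asHomogeneousIdeal) :
    IsDominant f := by
  refine ⟨dense_iff_inter_open.mpr fun O hO ⟨x, hx⟩ => ?_⟩
  obtain ⟨U, hU, hxU, -⟩ := exists_isAffineOpen_mem_and_subset (x := p x) (U := ⊤) (Opens.mem_top _)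
  obtain ⟨y, rfl⟩ := exists_emb_eq (chart := chart) U hU x hxU
  obtain ⟨d, h, hd, hh, hhy, hle⟩ := exists_basicOpen_subset (RelProj.emb p chart U hU ⁻¹ᵁ ⟨O, hO⟩) hx
  obtain ⟨z, y₁, hy₁, hy₁h⟩ := H U hU d h hd hh (not_isNilpotent_of_not_mem hhy)
  exact ⟨f z, hy₁ ▸ hle ((ProjectiveSpectrum.mem_basicOpen _ _ _).mpr hy₁h), z, rfl⟩

include hv hu' hP' hPL hr hr' in
/-- If a power of `h` lifts and `r'` is dominant, `r` meets `D₊(h)`. -/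
theorem meets_of_lift [IsDominant r'] (U : Y.Opens) (hU : IsAffineOpen U) {h : 𝒮.presheaf.obj (op U)}
    (hh : ¬ IsNilpotent h) {e : ℕ} (he : 0 < e) (g : 𝒯.presheaf.obj (op U)) (hg : g ∈ 𝒯.deg U hU e) (N : ℕ) (hN : 0 < N)
    (hgh : (v.hom.app (op U)).hom g = h ^ N) :
    ∃ (z : (RelProj.domQ u pL chartL : Scheme.{u})) (y₁ : Proj (𝒮.deg U hU)),
      RelProj.emb p chart U hU y₁ = r z ∧ h ∉ y₁.asHomogeneousIdeal := by
  have hgn : ¬ IsNilpotent g := fun hn => hh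
    ((isNilpotent_iff_of_pos hN).mp (hgh ▸ hn.map (v.hom.app (op U)).hom))
  obtain ⟨y, hy⟩ := exists_point_of_not_isNilpotent he hg hgn
  obtain ⟨x, y', hy', hgy'⟩ := meets_of_isDominant (chart := chart') r' U hU g y hy
  obtain ⟨U', hU', hle, hx⟩ := exists_chart_of_apply_mem hP' hPL hr' U hU he g hg x y' hy' hgy'
  obtain ⟨w, hw, hgw⟩ := (Ix.mem_range_c _ x).mp hx
  let i : Ix (g := q) (𝒮 := 𝒮) := ⟨U, hU, U', hU', hle, e, he, RelProj.gradedHomAt v hv U hU g, (RelProj.gradedHomAt v hv U hU).map_mem hg⟩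
  have hwu := (mem_range_c_comp hv hu' U hU U' hU' hle e he g hg x.1 w hw).mp hgw
  let z : (RelProj.domQ u pL chartL : Scheme.{u}) := ⟨x.1, domQ_comp_le hv hu' x.2⟩
  obtain ⟨y₁, hy₁, hvy⟩ := i.apply_mem hr z ((Ix.mem_range_c i z).mpr ⟨w, hw, hwu⟩)
  refine ⟨z, y₁, hy₁, fun hmem => hvy ?_⟩
  show (v.hom.app (op U)).hom g ∈ y₁.asHomogeneousIdeal.toIdeal
  rw [hgh]
  exact Ideal.pow_mem_of_mem _ hmem N hN
where
  isNilpotent_iff_of_pos {R : Type u} [CommRing R] {x : R} {n : ℕ} (hn : 0 < n) : IsNilpotent (x ^ n) ↔ IsNilpotent x :=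
    ⟨fun ⟨k, hk⟩ => ⟨n * k, by rw [pow_mul]; exact hk⟩, fun ⟨k, hk⟩ => ⟨k, by rw [← pow_mul, mul_comm, pow_mul, hk, zero_pow hn.ne']⟩⟩

include hv hu' hP hPL hr hr' in
/-- If `v g` is not nilpotent and `r` is dominant, `r'` meets `D₊(g)`. -/
theorem meets_of_map [IsDominant r] (U : Y.Opens) (hU : IsAffineOpen U) {e : ℕ} (he : 0 < e)
    (g : 𝒯.presheaf.obj (op U)) (hg : g ∈ 𝒯.deg U hU e) (hgn : ¬ IsNilpotent ((v.hom.app (op U)).hom g)) :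
    ∃ (z : (RelProj.domQ u' pL chartL : Scheme.{u})) (y₁ : Proj (𝒯.deg U hU)),
      RelProj.emb p' chart' U hU y₁ = r' z ∧ g ∉ y₁.asHomogeneousIdeal := by
  have hvg : RelProj.gradedHomAt v hv U hU g ∈ 𝒮.deg U hU e := (RelProj.gradedHomAt v hv U hU).map_mem hg
  obtain ⟨y, hy⟩ := exists_point_of_not_isNilpotent he hvg hgn
  obtain ⟨x, y', hy', hgy'⟩ := meets_of_isDominant (chart := chart) r U hU _ y hy
  obtain ⟨U', hU', hle, hx⟩ := exists_chart_of_apply_mem hP hPL hr U hU he _ hvg x y' hy' hgy'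
  obtain ⟨w, hw, hgw⟩ := (Ix.mem_range_c _ x).mp hx
  let i : Ix (g := q) (𝒮 := 𝒯) := ⟨U, hU, U', hU', hle, e, he, g, hg⟩
  have hwu := (mem_range_c_comp hv hu' U hU U' hU' hle e he g hg x.1 w hw).mpr hgw
  have hxd : x.1 ∈ RelProj.domQ u' pL chartL :=
    Opens.mem_iSup.mpr ⟨⟨(⟨U, hU⟩, ⟨U', hU'⟩), hle⟩, w, mem_domOpen_of _ he hg hwu, hw⟩
  obtain ⟨y₁, hy₁, hgy⟩ := i.apply_mem hr' ⟨x.1, hxd⟩ ((Ix.mem_range_c i _).mpr ⟨w, hw, hwu⟩)
  exact ⟨_, y₁, hy₁, hgy⟩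

end dominant

section immersion

include hu' hPL in
theorem comp_qmap {r : (RelProj.domQ u pL chartL : Scheme.{u}) ⟶ P}
    (hr : RelProj.IsProjQMapOn u p chart pL chartL (RelProj.domQ u pL chartL) r)
    {r' : (RelProj.domQ u' pL chartL : Scheme.{u}) ⟶ P'}
    (hr' : RelProj.IsProjQMapOn u' p' chart' pL chartL (RelProj.domQ u' pL chartL) r')
    (hP' : RelProj.IsRelProj 𝒯 p' chart') (w : P ⟶ P')
    (hw : ∀ (U : Y.Opens) (hU : IsAffineOpen U) (d : ℕ) (hd : 0 < d) (f : 𝒯.presheaf.obj (op U)) (hf : f ∈ 𝒯.deg U hU d),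
      Proj.awayι (𝒮.deg U hU) (RelProj.gradedHomAt v hv U hU f) (Graded.map_mem _ hf) hd ≫ RelProj.emb p chart U hU ≫ w =
        Spec.map (CommRingCat.ofHom (Away.map (RelProj.gradedHomAt v hv U hU) f)) ≫ Proj.awayι (𝒯.deg U hU) f hf hd ≫
          RelProj.emb p' chart' U hU)
    (hle : RelProj.domQ u' pL chartL ≤ RelProj.domQ u pL chartL) :
    PL.homOfLE hle ≫ r ≫ w = r' := by
  obtain ⟨r₀, hr₀, hu⟩ := existsUnique_isProjQMapOn (u := u') hP' hPL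
  refine (hu _ fun U hU U' hU' hle' d hd f hf hW => ?_).trans (hu r' hr').symm
  obtain ⟨θ, hθ1, hθ2⟩ := exists_iso_away_comp (RelProj.gradedHomAt v hv U hU) (u.gradedAt U hU U' hU' hle')
    (u'.gradedAt U hU U' hU' hle') (gradedAt_comp hu' U hU U' hU' hle') hd hf
  let i : Ix (g := q) (𝒮 := 𝒮) := ⟨U, hU, U', hU', hle', d, hd, _, (RelProj.gradedHomAt v hv U hU).map_mem hf⟩
  have e : IsOpenImmersion.lift (RelProj.domQ u' pL chartL).ι (RelProj.awayEmb u' pL chartL U hU U' hU' hle' hd f hf) hW ≫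
      PL.homOfLE hle = θ.hom ≫ i.c u pL chartL := by
    rw [← cancel_mono (RelProj.domQ u pL chartL).ι, Category.assoc, Category.assoc, Scheme.homOfLE_ι,
      IsOpenImmersion.lift_fac, Ix.c_ι, RelProj.awayEmb]
    exact ((reassoc_of% hθ1) _).symm
  rw [reassoc_of% e, reassoc_of% (i.c_comp hr), ← reassoc_of% hθ2]
  simp only [Ix.m, i, Category.assoc]
  exact congrArg (fun t => θ.hom ≫ Spec.map _ ≫ t) (hw U hU d hd f hf)

end immersion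

end Groth.Agent.RelProjBasic
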