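import Groth.Agent.RelProjBasic.QMap

/-!
# Preimages of standard opens under `G(u) ⟶ Proj 𝒮`
-/

set_option autoImplicit false
set_option maxHeartbeats 1600000
universe u
open CategoryTheory CategoryTheory.Limits AlgebraicGeometry TopologicalSpace Opposite HomogeneousLocalization
open scoped HomogeneousIdeal

set_option backward.isDefEq.respectTransparency false

namespace Groth.Agent.RelProjBasic

theorem specMap_away_mem_iff {σ τ A B : Type u} [CommRing A] [SetLike σ A] [AddSubgroupClass σ A]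
    [CommRing B] [SetLike τ B] [AddSubgroupClass τ B] {𝒜 : ℕ → σ} [GradedRing 𝒜] {ℬ : ℕ → τ} [GradedRing ℬ]
    (φ : 𝒜 →+*ᵍ ℬ) {d e : ℕ} {g f : A} (hg : g ∈ 𝒜 d) (hd : 0 < d) (hf : f ∈ 𝒜 e) (he : 0 < e)
    (z : Spec (CommRingCat.of (Away ℬ (φ g)))) :
    f ∈ (Proj.awayι 𝒜 g hg hd (Spec.map (CommRingCat.ofHom (Away.map φ g)) z)).asHomogeneousIdeal ↔
      φ f ∈ (Proj.awayι ℬ (φ g) (Graded.map_mem φ hg) hd z).asHomogeneousIdeal := by
  have h1 := SetLike.ext_iff.mp (Proj.awayι_preimage_basicOpen 𝒜 hg hd hf he)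
    (Spec.map (CommRingCat.ofHom (Away.map φ g)) z)
  have h2 := SetLike.ext_iff.mp (Proj.awayι_preimage_basicOpen ℬ (Graded.map_mem φ hg) hd (Graded.map_mem φ hf) he) z
  refine not_iff_not.mp ((ProjectiveSpectrum.mem_basicOpen _ _ _).symm.trans (h1.trans
    (Iff.trans ?_ (h2.symm.trans (ProjectiveSpectrum.mem_basicOpen _ _ _)))))
  show Away.map φ g (Away.isLocalizationElem hg hf) ∉ z.asIdeal ↔ Away.isLocalizationElem (Graded.map_mem φ hg) (Graded.map_mem φ hf) ∉ z.asIdeal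
  refine iff_of_eq (congrArg (· ∉ z.asIdeal) ?_)
  simp only [Away.isLocalizationElem, Away.map_mk, map_pow]

variable {S S' P P' : Scheme.{u}} {g : S' ⟶ S} {𝒮 : RelProj.QCGrAlg S} {𝒮' : RelProj.QCGrAlg S'}
  {u : RelProj.QGrHom g 𝒮 𝒮'} {p : P ⟶ S}
  {chart : ∀ (U : S.Opens) (hU : IsAffineOpen U), (((p ⁻¹ᵁ U : P.Opens) : Scheme.{u}) ≅ Proj (𝒮.deg U hU))}
  (hP : RelProj.IsRelProj 𝒮 p chart) {p' : P' ⟶ S'}
  {chart' : ∀ (U : S'.Opens) (hU : IsAffineOpen U), (((p' ⁻¹ᵁ U : P'.Opens) : Scheme.{u}) ≅ Proj (𝒮'.deg U hU))}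
  (hP' : RelProj.IsRelProj 𝒮' p' chart')
  {v : (RelProj.domQ u p' chart' : Scheme.{u}) ⟶ P}
  (hv : RelProj.IsProjQMapOn u p chart p' chart' (RelProj.domQ u p' chart') v)

include hv in
theorem Ix.c_comp (i : Ix (g := g) (𝒮 := 𝒮)) : i.c u p' chart' ≫ v = i.m u p chart :=
  hv i.U i.hU i.U' i.hU' i.hle i.d i.hd i.f i.hf _

include hv in
/-- A point of a chart at `f` maps into the standard open of `f`. -/
theorem Ix.apply_mem (i : Ix (g := g) (𝒮 := 𝒮)) (x : (RelProj.domQ u p' chart' : Scheme.{u}))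
    (hx : x ∈ Set.range (i.c u p' chart')) :
    ∃ y, RelProj.emb p chart i.U i.hU y = v x ∧ i.f ∉ y.asHomogeneousIdeal := by
  obtain ⟨z, rfl⟩ := hx
  exact ⟨_, (congrArg (fun q => q.base z) (i.c_comp hv)).symm,
    (ProjectiveSpectrum.mem_basicOpen _ _ _).mp ((Proj.opensRange_awayι _ _ i.hf i.hd).le ⟨_, rfl⟩)⟩

include hP hP' hv in
/-- A point mapped into `D₊(f)` over `U` lies in a chart at `f`. -/
theorem exists_chart_of_apply_mem (U : S.Opens) (hU : IsAffineOpen U) {d : ℕ} (hd : 0 < d)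
    (f : 𝒮.presheaf.obj (op U)) (hf : f ∈ 𝒮.deg U hU d) (x : (RelProj.domQ u p' chart' : Scheme.{u}))
    (y : Proj (𝒮.deg U hU)) (hy : RelProj.emb p chart U hU y = v x) (hfy : f ∉ y.asHomogeneousIdeal) :
    ∃ (U' : S'.Opens) (hU' : IsAffineOpen U') (hle : U' ≤ g ⁻¹ᵁ U),
      x ∈ Set.range ((⟨U, hU, U', hU', hle, d, hd, f, hf⟩ : Ix (g := g) (𝒮 := 𝒮)).c u p' chart') := by
  obtain ⟨i, hi⟩ := exists_ix (g := g) (𝒮 := 𝒮) (u := u) x
  obtain ⟨yi, hyi, hfi⟩ := (Ix.mem_range_c i x).mp hi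
  have hxi : p'.base x.1 ∈ i.U' := by
    have h := emb_mem (chart := chart') i.U' i.hU' yi
    rw [hyi] at h
    exact h
  have hpx : p (v x) = g (p' x.1) := congrArg (fun q => q.base x) (qmap_comp hP hP' hv)
  have hxU : g (p' x.1) ∈ U := by
    have h := emb_mem (chart := chart) U hU y
    rw [hy] at h
    exact hpx ▸ h
  obtain ⟨U', hU', hxU', hle⟩ := exists_isAffineOpen_mem_and_subset (x := p' x.1) (U := g ⁻¹ᵁ U) hxU
  refine ⟨U', hU', hle, ?_⟩
  obtain ⟨r, r', hrr, hxr⟩ := exists_basicOpen_le_affine_inter hU i.hU (g (p' x.1)) ⟨hxU, i.hle hxi⟩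
  obtain ⟨W₀, hW₀, hxW₀, hW₀le⟩ := exists_isAffineOpen_mem_and_subset (x := p' x.1)
    (U := g ⁻¹ᵁ S.basicOpen r ⊓ (U' ⊓ i.U')) ⟨hxr, hxU', hxi⟩
  obtain ⟨s, s₀, hss, hxs⟩ := exists_basicOpen_le_affine_inter hU' hW₀ (p' x.1) ⟨hxU', hxW₀⟩
  obtain ⟨t, t₀, htt, hxt⟩ := exists_basicOpen_le_affine_inter i.hU' hW₀ (p' x.1) ⟨hxi, hxW₀⟩
  -- a neighbourhood basic in both `U'` and `i.U'`
  obtain ⟨a, b, hab, hxa⟩ := exists_basicOpen_le_affine_inter (hU'.basicOpen s) (i.hU'.basicOpen t) (p' x.1) ⟨hxs, hxt⟩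
  obtain ⟨a', ha'⟩ := hU'.basicOpen_basicOpen_is_basicOpen s a
  obtain ⟨b', hb'⟩ := i.hU'.basicOpen_basicOpen_is_basicOpen t b
  have hW := hU.basicOpen r
  have hW' := hU'.basicOpen a'
  have hW'le : S'.basicOpen a' ≤ g ⁻¹ᵁ S.basicOpen r := by
    rw [ha']
    exact (S'.basicOpen_le a).trans (hss.le.trans ((S'.basicOpen_le s₀).trans (hW₀le.trans inf_le_left)))
  have hWi : S.basicOpen r ≤ i.U := hrr.le.trans (S.basicOpen_le r')
  have hW'i : S'.basicOpen a' ≤ i.U' := by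
    rw [ha', hab, ← hb']; exact S'.basicOpen_le b'
  obtain ⟨w, hw⟩ := exists_emb_eq (chart := chart') _ hW' x.1 (ha'.ge hxa)
  let k : Ix (g := g) (𝒮 := 𝒮) := ⟨_, hW, _, hW', hW'le, i.d, i.hd, 𝒮.res i.hU hW hWi i.f, (𝒮.res i.hU hW hWi).map_mem i.hf⟩
  have key : ∀ (V : S'.Opens) (hV : IsAffineOpen V) (eV : V = S'.basicOpen b') (w : Proj (𝒮'.deg V hV)),
      RelProj.emb p' chart' V hV w = x.1 → 𝒮'.res i.hU' hV (eV.le.trans (S'.basicOpen_le b'))
        (u.gradedAt i.U i.hU i.U' i.hU' i.hle i.f) ∉ w.asHomogeneousIdeal := by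
    rintro V hV rfl w e
    obtain rfl : Proj.map _ (𝒮'.irrelevant_le_map i.U' i.hU' b') w = yi :=
      (RelProj.emb p' chart' i.U' i.hU').isOpenEmbedding.injective
        (((congrArg (fun q => q.base w) (map_res_emb hP' i.U' i.hU' b')).trans e).trans hyi.symm)
    exact hfi
  have hkw := key _ hW' (ha'.trans (hab.trans hb'.symm)) w hw
  rw [gradedAt_res i.U i.hU i.U' i.hU' i.hle hW hW' hW'le hWi _ i.f] at hkw
  obtain ⟨z, hz⟩ := (Ix.mem_range_c k x).mpr ⟨w, hw, hkw⟩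
  -- the restriction of `f` does not vanish at the image
  have hv1 : RelProj.emb p chart _ hW (Proj.awayι (𝒮.deg _ hW) k.f k.hf k.hd
      (Spec.map (CommRingCat.ofHom (Away.map (u.gradedAt k.U k.hU k.U' k.hU' k.hle) k.f)) z)) = v x := by
    rw [← hz]
    exact (congrArg (fun q => q.base z) (k.c_comp hv)).symm
  have hfW : 𝒮.res hU hW (S.basicOpen_le r) f ∉ (Proj.awayι (𝒮.deg _ hW) k.f k.hf k.hd
      (Spec.map (CommRingCat.ofHom (Away.map (u.gradedAt k.U k.hU k.U' k.hU' k.hle) k.f)) z)).asHomogeneousIdeal := by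
    let Q := Proj.awayι (𝒮.deg _ hW) k.f k.hf k.hd
      (Spec.map (CommRingCat.ofHom (Away.map (u.gradedAt k.U k.hU k.U' k.hU' k.hle) k.f)) z)
    have : Proj.map _ (𝒮.irrelevant_le_map U hU r) Q = y :=
      (RelProj.emb p chart U hU).isOpenEmbedding.injective
        (((congrArg (fun (q : Proj (𝒮.deg _ (hU.basicOpen r)) ⟶ P) => q.base Q) (map_res_emb hP U hU r)).trans hv1).trans hy.symm)
    intro h
    exact hfy (this ▸ h)
  have hwz : Proj.awayι (𝒮'.deg _ hW') (u.gradedAt k.U k.hU k.U' k.hU' k.hle k.f)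
      (Graded.map_mem _ k.hf) k.hd z = w := by
    refine (RelProj.emb p' chart' _ hW').isOpenEmbedding.injective ?_
    exact ((congrArg (fun q => q.base z) k.c_ι).symm.trans (congrArg Subtype.val hz)).trans hw.symm
  have hne : u.gradedAt _ hW _ hW' hW'le (𝒮.res hU hW (S.basicOpen_le r) f) ∉ w.asHomogeneousIdeal := by
    rw [← hwz]
    exact fun h => hfW ((specMap_away_mem_iff _ k.hf k.hd ((𝒮.res hU hW (S.basicOpen_le r)).map_mem hf) hd z).mpr h)
  rw [← gradedAt_res U hU U' hU' hle hW hW' hW'le (S.basicOpen_le r) (S'.basicOpen_le a') f] at hne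
  refine (Ix.mem_range_c _ x).mpr ⟨Proj.map _ (𝒮'.irrelevant_le_map U' hU' a') w, ?_, hne⟩
  exact (congrArg (fun q => q.base w) (map_res_emb hP' U' hU' a')).trans hw

end Groth.Agent.RelProjBasic
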