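import Groth.Agent.RelProjBasic.QMapId
import Groth.Agent.RelProjBasic.QMapPreimage
import Groth.Agent.RelProjBasic.QMapComp

/-!
# `Proj` of a composite, when only defined on an open
-/

set_option autoImplicit false
set_option maxHeartbeats 1600000
universe u
open CategoryTheory CategoryTheory.Limits AlgebraicGeometry TopologicalSpace Opposite HomogeneousLocalization
open scoped HomogeneousIdeal

set_option backward.isDefEq.respectTransparency false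

namespace Groth.Agent.RelProjBasic

variable {Y S' P P' PL : Scheme.{u}} {q : S' ⟶ Y} {𝒯 𝒮 : RelProj.QCGrAlg Y} {𝒮L : RelProj.QCGrAlg S'}
  {u : RelProj.QGrHom q 𝒮 𝒮L} {u' : RelProj.QGrHom q 𝒯 𝒮L}
  {v : 𝒯.toQCAlg ⟶ 𝒮.toQCAlg} {hv : RelProj.IsGradedHom v}
  {p : P ⟶ Y} {chart : ∀ (U : Y.Opens) (hU : IsAffineOpen U), (((p ⁻¹ᵁ U : P.Opens) : Scheme.{u}) ≅ Proj (𝒮.deg U hU))}
  (hP : RelProj.IsRelProj 𝒮 p chart)
  {p' : P' ⟶ Y} {chart' : ∀ (U : Y.Opens) (hU : IsAffineOpen U), (((p' ⁻¹ᵁ U : P'.Opens) : Scheme.{u}) ≅ Proj (𝒯.deg U hU))}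
  (hP' : RelProj.IsRelProj 𝒯 p' chart')
  {pL : PL ⟶ S'} {chartL : ∀ (U : S'.Opens) (hU : IsAffineOpen U), (((pL ⁻¹ᵁ U : PL.Opens) : Scheme.{u}) ≅ Proj (𝒮L.deg U hU))}
  (hPL : RelProj.IsRelProj 𝒮L pL chartL)
  (hu' : ∀ U : Y.Opens, u'.app U = v.hom.app (op U) ≫ u.app U)
  {r : (RelProj.domQ u pL chartL : Scheme.{u}) ⟶ P}
  (hr : RelProj.IsProjQMapOn u p chart pL chartL (RelProj.domQ u pL chartL) r)
  {r' : (RelProj.domQ u' pL chartL : Scheme.{u}) ⟶ P'}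
  (hr' : RelProj.IsProjQMapOn u' p' chart' pL chartL (RelProj.domQ u' pL chartL) r')

include hP hP' hPL hu' hr hr' hv in
/-- `Proj(u)` restricted to `G(u')` lands in `G(v)`, and followed by `Proj(v)` is `Proj(u')`. -/
theorem exists_factor (hle : RelProj.domQ u' pL chartL ≤ RelProj.domQ u pL chartL) :
    ∃ (r₀ : (RelProj.domQ u' pL chartL : Scheme.{u}) ⟶
        (RelProj.domQ (RelProj.QGrHom.ofHom v hv) p chart : Scheme.{u}))
      (w : (RelProj.domQ (RelProj.QGrHom.ofHom v hv) p chart : Scheme.{u}) ⟶ P'),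
      r₀ ≫ (RelProj.domQ (RelProj.QGrHom.ofHom v hv) p chart).ι = PL.homOfLE hle ≫ r ∧ r₀ ≫ w = r' := by
  let G := RelProj.domQ (RelProj.QGrHom.ofHom v hv) p chart
  obtain ⟨w, hw, -⟩ := existsUnique_isProjQMapOn (u := RelProj.QGrHom.ofHom v hv) hP' hP
  have hstep : ∀ i : Ix (g := q) (𝒮 := 𝒯), ∃ (jj : Ix (g := 𝟙 Y) (𝒮 := 𝒯))
      (a : i.src (u := u') ⟶ jj.src (u := RelProj.QGrHom.ofHom v hv)),
      i.c u' pL chartL ≫ PL.homOfLE hle ≫ r = a ≫ jj.c (RelProj.QGrHom.ofHom v hv) p chart ≫ G.ι ∧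
      a ≫ jj.m (RelProj.QGrHom.ofHom v hv) p' chart' = i.m u' p' chart' := by
    intro i
    obtain ⟨U, hU, U', hU', hle', d, hd, f, hf⟩ := i
    let χ := self (RelProj.QGrHom.ofHom v hv) U hU
    have hcomp : ∀ a, u'.gradedAt U hU U' hU' hle' a = u.gradedAt U hU U' hU' hle' (χ a) := fun a => by
      show _ = u.gradedAt U hU U' hU' hle' (self (RelProj.QGrHom.ofHom v hv) U hU a)
      rw [self_ofHom hv U hU]
      exact gradedAt_comp (hv := hv) hu' U hU U' hU' hle' a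
    obtain ⟨θ, hθ1, hθ2⟩ := exists_iso_away_comp χ (u.gradedAt U hU U' hU' hle') (u'.gradedAt U hU U' hU' hle') hcomp hd hf
    let i₁ : Ix (g := q) (𝒮 := 𝒮) := ⟨U, hU, U', hU', hle', d, hd, χ f, Graded.map_mem χ hf⟩
    let jj : Ix (g := 𝟙 Y) (𝒮 := 𝒯) := ⟨U, hU, U, hU, fun _ hz => hz, d, hd, f, hf⟩
    refine ⟨jj, θ.hom ≫ Spec.map (CommRingCat.ofHom (Away.map (u.gradedAt U hU U' hU' hle') (χ f))), ?_, ?_⟩
    · have e : Ix.c u' pL chartL ⟨U, hU, U', hU', hle', d, hd, f, hf⟩ ≫ PL.homOfLE hle = θ.hom ≫ i₁.c u pL chartL := by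
        rw [← cancel_mono (RelProj.domQ u pL chartL).ι, Category.assoc, Category.assoc, Scheme.homOfLE_ι, Ix.c_ι, Ix.c_ι]
        exact ((reassoc_of% hθ1) _).symm
      rw [reassoc_of% e, i₁.c_comp hr, Ix.c_ι]
      simp only [Ix.m, i₁, jj, Category.assoc]
      rfl
    · simp only [Ix.m, jj, Category.assoc]
      exact (reassoc_of% hθ2) _
  choose jj a ha hb using hstep
  have hrange : Set.range (PL.homOfLE hle ≫ r).base ⊆ Set.range G.ι.base := by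
    rintro _ ⟨x, rfl⟩
    obtain ⟨i, z, rfl⟩ := exists_ix (g := q) (𝒮 := 𝒯) (u := u') x
    exact ⟨_, (congrArg (fun g => g.base z) (ha i)).symm⟩
  refine ⟨IsOpenImmersion.lift G.ι (PL.homOfLE hle ≫ r) hrange, w, IsOpenImmersion.lift_fac _ _ _, ?_⟩
  obtain ⟨r₁, hr₁, hu⟩ := existsUnique_isProjQMapOn (u := u') hP' hPL
  refine (hu _ fun U hU U' hU' hle' d hd f hf hW => ?_).trans (hu r' hr').symm
  let i : Ix (g := q) (𝒮 := 𝒯) := ⟨U, hU, U', hU', hle', d, hd, f, hf⟩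
  have e : i.c u' pL chartL ≫ IsOpenImmersion.lift G.ι (PL.homOfLE hle ≫ r) hrange =
      a i ≫ (jj i).c (RelProj.QGrHom.ofHom v hv) p chart := by
    rw [← cancel_mono G.ι, Category.assoc, Category.assoc, IsOpenImmersion.lift_fac, ha i]
  show i.c u' pL chartL ≫ _ = i.m u' p' chart'
  rw [reassoc_of% e, (jj i).c_comp hw, hb i]

end Groth.Agent.RelProjBasic
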